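import Groth.Agent.TopVanish.Van
import Mathlib.Topology.Spectral.Basic
import Mathlib.Topology.Spectral.ConstructibleTopology
import Mathlib.Topology.KrullDimension

/-!
# Vanishing for spectral spaces: families of germs, continuous for the constructible topology
-/

set_option autoImplicit false

universe u

open CategoryTheory CategoryTheory.Limits Opposite TopologicalSpace Topology Filter Abelian

noncomputable section

namespace Groth.Agent.TopVanish

variable {X : TopCat.{u}} (F : CohTop.Ab X)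

/-- Germs. -/
abbrev grm {U : Opens X} (x : X) (hx : x ∈ U) (s : F.obj.obj (op U)) : CohTop.stalk F x :=
  TopCat.Presheaf.germ F.obj U x hx s

lemma grm_res {U V : Opens X} (h : V ≤ U) (x : X) (hx : x ∈ V) (s : F.obj.obj (op U)) :
    grm F x hx (F.obj.map (homOfLE h).op s) = grm F x (h hx) s :=
  TopCat.Presheaf.germ_res_apply F.obj (homOfLE h) x hx s

/-- Locally given, for the constructible topology, by a section. -/
def IsCLoc {U : Opens X} (g : ∀ x : U, CohTop.stalk F x.1) : Prop :=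
  ∀ x : U, ∃ (A B : Opens X), IsCompact (A : Set X) ∧ IsCompact (B : Set X) ∧ (x : X) ∈ A ∧ (x : X) ∉ B ∧
    ∃ s : F.obj.obj (op A), ∀ (y : U) (hy : (y : X) ∈ A), (y : X) ∉ B → g y = grm F y.1 hy s

variable [PrespectralSpace X] [QuasiSeparatedSpace X]

lemma isCompact_sup₂ {A B : Opens X} (hA : IsCompact (A : Set X)) (hB : IsCompact (B : Set X)) :
    IsCompact ((A ⊔ B : Opens X) : Set X) := by
  rw [Opens.coe_sup]
  exact hA.union hB

/-- The group of families of germs. -/
def godGroup (U : Opens X) : AddSubgroup (∀ x : U, CohTop.stalk F x.1) where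
  carrier := {g | IsCLoc F g}
  zero_mem' x := by
    obtain ⟨A, hxA, hA, -⟩ := exists_compact_le x.2
    exact ⟨A, ⊥, hA, by simp, hxA, by simp, 0, fun y hy _ => (map_zero _).symm⟩
  add_mem' {g g'} hg hg' x := by
    obtain ⟨A, B, hA, hB, hxA, hxB, s, hs⟩ := hg x
    obtain ⟨A', B', hA', hB', hxA', hxB', s', hs'⟩ := hg' x
    refine ⟨A ⊓ A', B ⊔ B', isCompact_inf hA hA', isCompact_sup₂ hB hB', ⟨hxA, hxA'⟩, fun h => h.elim hxB hxB',
      F.obj.map (homOfLE inf_le_left).op s + F.obj.map (homOfLE inf_le_right).op s', fun y hy hyB => ?_⟩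
    refine Eq.trans ?_ (map_add _ _ _).symm
    show g y + g' y = _
    rw [hs y hy.1 fun h => hyB (Or.inl h), hs' y hy.2 fun h => hyB (Or.inr h)]
    exact congrArg₂ (· + ·) (grm_res F inf_le_left y.1 hy s).symm (grm_res F inf_le_right y.1 hy s').symm
  neg_mem' {g} hg x := by
    obtain ⟨A, B, hA, hB, hxA, hxB, s, hs⟩ := hg x
    exact ⟨A, B, hA, hB, hxA, hxB, -s, fun y hy hyB => (congrArg Neg.neg (hs y hy hyB)).trans (map_neg _ _).symm⟩

/-- Restriction of families. -/
def godMap {U V : Opens X} (h : V ≤ U) : godGroup F U →+ godGroup F V :=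
  AddMonoidHom.mk' (fun g => (⟨fun x => g.1 ⟨x.1, h x.2⟩, fun x => by
    obtain ⟨A, B, hA, hB, hxA, hxB, s, hs⟩ := g.2 ⟨x.1, h x.2⟩
    exact ⟨A, B, hA, hB, hxA, hxB, s, fun y hy hyB => hs ⟨y.1, h y.2⟩ hy hyB⟩⟩ : godGroup F V))
    fun _ _ => rfl

/-- The presheaf of families. -/
def godPsh : TopCat.Presheaf AddCommGrpCat.{u} X where
  obj U := AddCommGrpCat.of (godGroup F U.unop)
  map i := AddCommGrpCat.ofHom (godMap F (leOfHom i.unop))
  map_id _ := rfl
  map_comp _ _ := rfl

theorem godPsh_isSheaf : (godPsh F).IsSheaf := by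
  rw [TopCat.Presheaf.isSheaf_iff_isSheafUniqueGluing]
  intro ι U sf hsf
  classical
  have hmem : ∀ w : ↥(iSup U : Opens X), ∃ i, (w : X) ∈ U i := fun w => Opens.mem_iSup.1 w.2
  choose idx hidx using hmem
  have agree : ∀ (w : X) (i j : ι) (hi : w ∈ U i) (hj : w ∈ U j), (sf i).1 ⟨w, hi⟩ = (sf j).1 ⟨w, hj⟩ :=
    fun w i j hi hj => congrFun (congrArg Subtype.val (hsf i j)) ⟨w, hi, hj⟩
  refine ⟨⟨fun w => (sf (idx w)).1 ⟨w.1, hidx w⟩, fun x => ?_⟩, fun i => ?_, fun τ hτ => ?_⟩
  · obtain ⟨A, B, hA, hB, hxA, hxB, s, hs⟩ := (sf (idx x)).2 ⟨x.1, hidx x⟩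
    obtain ⟨A', hxA', hA', hA'le⟩ := exists_compact_le (show (x : X) ∈ A ⊓ U (idx x) from ⟨hxA, hidx x⟩)
    refine ⟨A', B, hA', hB, hxA', hxB, F.obj.map (homOfLE (hA'le.trans inf_le_left)).op s, fun y hy hyB => ?_⟩
    refine (agree y.1 _ (idx x) (hidx y) (hA'le hy).2).trans ((hs ⟨y.1, (hA'le hy).2⟩ (hA'le hy).1 hyB).trans ?_)
    exact (grm_res F (hA'le.trans inf_le_left) y.1 hy s).symm
  · exact Subtype.ext (funext fun w => agree _ _ _ _ w.2)
  · exact Subtype.ext (funext fun w => congrFun (congrArg Subtype.val (hτ (idx w))) ⟨w.1, hidx w⟩)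

/-- The sheaf of families. -/
def godSh : CohTop.Ab X := ⟨godPsh F, godPsh_isSheaf F⟩

/-- The family of germs of a section. -/
def godUnitApp (U : Opens X) : F.obj.obj (op U) →+ godGroup F U :=
  AddMonoidHom.mk' (fun s => (⟨fun x => grm F x.1 x.2 s, fun x => by
    obtain ⟨A, hxA, hA, hAU⟩ := exists_compact_le x.2
    exact ⟨A, ⊥, hA, by simp, hxA, by simp, F.obj.map (homOfLE hAU).op s, fun y hy _ =>
      (grm_res F hAU y.1 hy s).symm⟩⟩ : godGroup F U))
    fun s t => Subtype.ext (funext fun x => map_add _ s t)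

/-- The unit. -/
def godUnit : F ⟶ godSh F :=
  ObjectProperty.homMk
    { app := fun U => AddCommGrpCat.ofHom (godUnitApp F U.unop)
      naturality := fun U V i => AddCommGrpCat.hom_ext (AddMonoidHom.ext fun s => Subtype.ext (funext fun x =>
        TopCat.Presheaf.germ_res_apply F.obj i.unop x.1 x.2 s)) }

instance : Mono (godUnit F) := by
  haveI : ∀ U, Mono ((godUnit F).hom.app U) := fun U => (AddCommGrpCat.mono_iff_injective _).2
    fun s t h => TopCat.Presheaf.section_ext (⟨F.obj, F.2⟩ : TopCat.Sheaf AddCommGrpCat.{u} X) U.unop s t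
      fun x hx => congrFun (congrArg Subtype.val h) ⟨x, hx⟩
  haveI : Mono (godUnit F).hom := NatTrans.mono_of_mono_app _
  haveI : Mono ((sheafToPresheaf _ _).map (godUnit F)) := ‹Mono (godUnit F).hom›
  exact (sheafToPresheaf _ _).mono_of_mono_map ‹Mono ((sheafToPresheaf _ _).map (godUnit F))›

theorem isQcFlasque_godSh : IsQcFlasque (godSh F) := by
  intro U V hle hU hV (g : godGroup F V)
  classical
  refine ⟨(⟨fun x => if hx : (x : X) ∈ V then g.1 ⟨x.1, hx⟩ else 0, fun x => ?_⟩ : godGroup F U),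
    Subtype.ext (funext fun x => ?_)⟩
  · by_cases hx : (x : X) ∈ V
    · obtain ⟨A, B, hA, hB, hxA, hxB, s, hs⟩ := g.2 ⟨x.1, hx⟩
      refine ⟨A ⊓ V, B, isCompact_inf hA hV, hB, ⟨hxA, hx⟩, hxB, F.obj.map (homOfLE inf_le_left).op s, fun y hy hyB => ?_⟩
      beta_reduce
      rw [dif_pos (show (y : X) ∈ V from hy.2), hs ⟨y.1, hy.2⟩ hy.1 hyB]
      exact (grm_res F inf_le_left y.1 hy s).symm
    · refine ⟨U, V, hU, hV, x.2, hx, 0, fun y hy hyV => ?_⟩
      beta_reduce
      rw [dif_neg hyV]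
      exact (map_zero _).symm
  · exact dif_pos x.2

omit [QuasiSeparatedSpace X] [PrespectralSpace X] in
theorem isCompact_of_isClosed_constructible [CompactSpace X] [QuasiSober X] [PrespectralSpace X]
    [QuasiSeparatedSpace X] {D : Set X} (hD : IsClosed[constructibleTopology X] D) :
    @IsCompact X (constructibleTopology X) D := by
  have h : @CompactSpace X (constructibleTopology X) :=
    @Function.Surjective.compactSpace (WithConstructibleTopology X) X _ (constructibleTopology X) _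
      (WithTopology.continuous_ofTopology _) inferInstance (WithTopology.ofTopology_surjective _)
  exact @IsClosed.isCompact X (constructibleTopology X) _ h hD

variable [CompactSpace X] [QuasiSober X]

/-- Near a point whose proper generalizations carry no stalk a family comes from a section. -/
theorem exists_eq_godUnit {U : Opens X} (g : godGroup F U) {x : X} (hx : x ∈ U)
    (h0 : ∀ y, y ⤳ x → y ≠ x → ∀ t : CohTop.stalk F y, t = 0) :
    ∃ (N : Opens X) (hN : N ≤ U), x ∈ N ∧ ∃ s : F.obj.obj (op N), godUnitApp F N s = godMap F hN g := by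
  obtain ⟨A, B, hA, hB, hxA, hxB, s, hs⟩ := g.2 ⟨x, hx⟩
  obtain ⟨N₀, hxN, hN₀, hN₀le⟩ := exists_compact_le (show x ∈ U ⊓ A from ⟨hx, hxA⟩)
  let Ne : ∀ y, y ∈ N₀ → Prop := fun y hy => g.1 ⟨y, (hN₀le hy).1⟩ ≠ grm F y (hN₀le hy).2 s
  let D : Set X := {y | ∃ hy : y ∈ N₀, Ne y hy}
  have hDc : IsClosed[constructibleTopology X] D := by
    refine @IsClosed.mk X (constructibleTopology X) D ?_
    rw [@isOpen_iff_forall_mem_open X (constructibleTopology X)]
    intro y hy
    by_cases hyN : y ∈ N₀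
    · have heq : g.1 ⟨y, (hN₀le hyN).1⟩ = grm F y (hN₀le hyN).2 s := by_contra fun h => hy ⟨hyN, h⟩
      obtain ⟨A', B', hA', hB', hyA', hyB', s', hs'⟩ := g.2 ⟨y, (hN₀le hyN).1⟩
      obtain ⟨W, hyW, i, j, hij⟩ := TopCat.Presheaf.germ_eq F.obj y hyA' (hN₀le hyN).2 s' s
        ((hs' ⟨y, (hN₀le hyN).1⟩ hyA' hyB').symm.trans heq)
      obtain ⟨N₁, hyN₁, hN₁, hN₁le⟩ := exists_compact_le hyW
      refine ⟨(N₁ : Set X) ∩ (B' : Set X)ᶜ, ?_, @IsOpen.inter X (constructibleTopology X) _ _
        (hN₁.isOpen_constructibleTopology_of_isOpen N₁.isOpen)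
        ((show IsCompact ((B' : Set X)ᶜ)ᶜ by rwa [compl_compl]).isOpen_constructibleTopology_of_isClosed
          B'.isOpen.isClosed_compl), hyN₁, hyB'⟩
      rintro z ⟨hz, hzB⟩ ⟨hzN, hne⟩
      refine hne ((hs' ⟨z, (hN₀le hzN).1⟩ (leOfHom i (hN₁le hz)) hzB).trans ?_)
      refine (TopCat.Presheaf.germ_res_apply F.obj i z (hN₁le hz) s').symm.trans ?_
      refine (congrArg (TopCat.Presheaf.germ F.obj W z (hN₁le hz)) hij).trans ?_
      exact TopCat.Presheaf.germ_res_apply F.obj j z (hN₁le hz) s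
    · refine ⟨(N₀ : Set X)ᶜ, fun z hz hzD => hz hzD.1, ?_, hyN⟩
      exact (show IsCompact ((N₀ : Set X)ᶜ)ᶜ by rwa [compl_compl]).isOpen_constructibleTopology_of_isClosed
        N₀.isOpen.isClosed_compl
  have hsep : ∀ y : D, ∃ V : Opens X, IsCompact (V : Set X) ∧ x ∈ V ∧ y.1 ∉ V := by
    rintro ⟨y, hyN, hne⟩
    have hns : ¬ y ⤳ x := fun hsp => hne <| by
      rcases eq_or_ne y x with rfl | hyx
      · exact hs ⟨y, (hN₀le hyN).1⟩ (hN₀le hyN).2 hxB
      · exact (h0 y hsp hyx _).trans (h0 y hsp hyx _).symm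
    obtain ⟨W, hW, hxW, hyW⟩ := not_specializes_iff_exists_open.1 hns
    obtain ⟨V, hxV, hV, hVW⟩ := exists_compact_le (U := ⟨W, hW⟩) hxW
    exact ⟨V, hV, hxV, fun h => hyW (hVW h)⟩
  choose V hV hxV hyV using hsep
  obtain ⟨t, ht⟩ := @IsCompact.elim_finite_subcover X (constructibleTopology X) D _
    (isCompact_of_isClosed_constructible hDc) (fun y : D => (V y : Set X)ᶜ)
    (fun y => (show IsCompact ((V y : Set X)ᶜ)ᶜ by rw [compl_compl]; exact hV y).isOpen_constructibleTopology_of_isClosed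
      (V y).isOpen.isClosed_compl)
    (fun y hy => Set.mem_iUnion.2 ⟨⟨y, hy⟩, hyV ⟨y, hy⟩⟩)
  refine ⟨N₀ ⊓ t.inf V, inf_le_left.trans (hN₀le.trans inf_le_left), ⟨hxN, ?_⟩,
    F.obj.map (homOfLE (inf_le_left.trans (hN₀le.trans inf_le_right))).op s, ?_⟩
  · rw [SetLike.mem_coe, ← SetLike.mem_coe, Opens.coe_finset_inf, Finset.inf_set_eq_iInter]
    exact Set.mem_iInter₂.2 fun y _ => hxV y
  · refine Subtype.ext (funext fun z => ?_)
    refine (grm_res F (inf_le_left.trans (hN₀le.trans inf_le_right)) z.1 z.2 s).trans ?_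
    refine Eq.symm (by_contra fun h => ?_)
    obtain ⟨y, hy, hzy⟩ := Set.mem_iUnion₂.1 (ht (⟨z.2.1, h⟩ : z.1 ∈ D))
    exact hzy ((Finset.inf_le (f := V) hy : t.inf V ≤ V y) z.2.2)

section Height

/-- The point as an irreducible closed subset. -/
def ptCl (x : X) : IrreducibleCloseds X := ⟨closure {x}, isIrreducible_singleton.closure, isClosed_closure⟩

/-- Stalks vanish at points without chains of length `k` above them. -/
def Cls (k : ℕ) (F : CohTop.Ab X) : Prop :=
  ∀ x : X, (∀ s : LTSeries (IrreducibleCloseds X), s.head = ptCl x → s.length < k) → ∀ t : CohTop.stalk F x, t = 0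

variable {F}

omit [PrespectralSpace X] [QuasiSeparatedSpace X] [CompactSpace X] [QuasiSober X] in
theorem cls_zero : Cls 0 F := fun x h => absurd (h (RelSeries.singleton _ (ptCl x)) rfl) (Nat.not_lt_zero _)

omit [PrespectralSpace X] [QuasiSeparatedSpace X] [CompactSpace X] [QuasiSober X] in
theorem isZero_of_cls {d k : ℕ} (hd : topologicalKrullDim X ≤ d) (hk : d < k) (h : Cls k F) : IsZero F := by
  have hz : ∀ (x : X) (t : CohTop.stalk F x), t = 0 := fun x => h x fun s _ => by
    have h' := (Order.LTSeries.length_le_krullDim s).trans (show Order.krullDim (IrreducibleCloseds X) ≤ _ from hd)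
    exact lt_of_le_of_lt (by exact_mod_cast h') hk
  rw [IsZero.iff_id_eq_zero]
  refine Sheaf.hom_ext (NatTrans.ext (funext fun U => AddCommGrpCat.hom_ext (AddMonoidHom.ext fun s => ?_)))
  exact TopCat.Presheaf.section_ext (⟨F.obj, F.2⟩ : TopCat.Sheaf AddCommGrpCat.{u} X) U.unop s 0
    fun x hx => (hz x _).trans (hz x _).symm

/-- The quotient by a sheaf in class `k` is in class `k + 1`. -/
theorem cls_cokernel [T0Space X] {k : ℕ} (h : Cls k F) : Cls (k + 1) (cokernel (godUnit F)) := by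
  intro x hx q
  obtain ⟨U, hxU, c, rfl⟩ := TopCat.Presheaf.germ_exist (cokernel (godUnit F)).obj q
  have hls : Sheaf.IsLocallySurjective (cokernel.π (godUnit F)) :=
    (Sheaf.isLocallySurjective_iff_epi' AddCommGrpCat.{u} _).2 inferInstance
  obtain ⟨W, i, ⟨g, hg⟩, hxW⟩ := hls.imageSieve_mem (U := U) c x hxU
  obtain ⟨N, hN, hxN, s, hs⟩ := exists_eq_godUnit F (g : godGroup F W) hxW fun y hy hyx t => by
    refine h y (fun r hr => ?_) t
    have hlt : ptCl x < r.head := by
      rw [hr]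
      refine lt_of_le_of_ne (show closure {x} ⊆ closure {y} from specializes_iff_closure_subset.1 hy) fun e => hyx ?_
      exact ((show y ⤳ x from hy).antisymm (specializes_iff_closure_subset.2
        (congrArg (fun T : IrreducibleCloseds X => (T : Set X)) e).ge)).eq
    have := hx (r.cons (ptCl x) hlt) (RelSeries.head_cons _ _ _)
    simp only [RelSeries.cons_length] at this
    omega
  have h1 : (cokernel (godUnit F)).obj.map (homOfLE hN).op ((cokernel.π (godUnit F)).hom.app (op W) g) = 0 := by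
    refine (res_app (cokernel.π (godUnit F)) hN g).trans ?_
    refine (congrArg ((cokernel.π (godUnit F)).hom.app (op N)) hs.symm).trans ?_
    exact ConcreteCategory.congr_hom (NatTrans.congr_app
      (congrArg (fun m : F ⟶ cokernel (godUnit F) => m.hom) (cokernel.condition (godUnit F))) (op N)) s
  rw [← TopCat.Presheaf.germ_res_apply (cokernel (godUnit F)).obj i x hxW c]
  refine (congrArg (TopCat.Presheaf.germ (cokernel (godUnit F)).obj W x hxW) hg.symm).trans ?_
  rw [← TopCat.Presheaf.germ_res_apply (cokernel (godUnit F)).obj (homOfLE hN) x hxN]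
  exact (congrArg (TopCat.Presheaf.germ (cokernel (godUnit F)).obj N x hxN) h1).trans (map_zero _)

/-- The Godement sequence. -/
abbrev godSeq (F : CohTop.Ab X) : ShortComplex (CohTop.Ab X) :=
  ShortComplex.mk (godUnit F) (cokernel.π _) (cokernel.condition _)

lemma godSeq_shortExact : (godSeq F).ShortExact :=
  { exact := ShortComplex.exact_of_g_is_cokernel _ (cokernelIsCokernel _) }

lemma van_godSh (m : ℕ) : Van (m + 1) (godSh F) := fun p hp => by
  obtain ⟨j, rfl⟩ : ∃ j, p = j + 1 := ⟨p - 1, by omega⟩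
  exact subsingleton_HU_of_isQcFlasque (isQcFlasque_godSh F) ⊤ isCompact_univ j

/-- Vanishing above the dimension. -/
theorem van_spectral [T0Space X] {d : ℕ} (hd : topologicalKrullDim X ≤ d) :
    ∀ (m k : ℕ), d + 1 ≤ k + m → ∀ F : CohTop.Ab X, Cls k F → Van m F
  | 0, k, hk, F, h => van_of_isZero (isZero_of_cls hd (by omega) h)
  | m + 1, k, hk, F, h => van_X₁_succ (godSeq_shortExact (F := F)) (van_godSh m)
      (van_spectral hd m (k + 1) (by omega) _ (cls_cokernel h))

/-- Restriction to compact opens is surjective in top degree. -/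
theorem top_degree_surjective [T0Space X] {d : ℕ} (hd : topologicalKrullDim X ≤ d) (U : Opens X)
    (hU : IsCompact (U : Set X)) :
    ∀ (m k : ℕ), d ≤ k + m → ∀ F : CohTop.Ab X, Cls k F → Function.Surjective (CohTop.res F m (le_top : U ≤ ⊤))
  | 0, k, hk, F, h => fun x => by
      haveI : IsIso (godUnit F) := by
        haveI : Epi (godUnit F) :=
          Preadditive.epi_of_cokernel_zero
            ((isZero_of_cls (k := k + 1) hd (by omega) (cls_cokernel h)).eq_of_tgt _ _)
        exact isIso_of_mono_of_epi _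
      obtain ⟨φ, rfl⟩ := (Ext.mk₀_bijective _ _).2 x
      obtain ⟨t, ht⟩ := isQcFlasque_godSh F (le_top : U ≤ ⊤) isCompact_univ hU
        ((godUnit F).hom.app (op U) (SiteBase.secEquiv (Opens.grothendieckTopology X) U F φ))
      refine ⟨Ext.mk₀ ((SiteBase.secEquiv (Opens.grothendieckTopology X) ⊤ (godSh F)).symm t ≫ inv (godUnit F)), ?_⟩
      refine (Ext.mk₀_comp_mk₀ (CohCx.freeSheafMap (Opens.grothendieckTopology X) (homOfLE (le_top : U ≤ ⊤))) _).trans
        (congrArg Ext.mk₀ ?_)
      rw [← cancel_mono (godUnit F), Category.assoc, Category.assoc, IsIso.inv_hom_id, Category.comp_id]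
      apply (SiteBase.secEquiv (Opens.grothendieckTopology X) U (godSh F)).injective
      rw [SiteBase.secEquiv_freeSheafMap, AddEquiv.apply_symm_apply, SiteBase.secEquiv_comp]
      exact ht
  | m + 1, k, hk, F, h => fun (x : Ext (CohCx.freeSheaf (Opens.grothendieckTopology X) U) F (m + 1)) => by
      obtain ⟨y, hy⟩ := Ext.covariant_sequence_exact₁ _ (godSeq_shortExact (F := F)) x
        ((subsingleton_HU_of_isQcFlasque (isQcFlasque_godSh F) U hU m).elim _ _) (n₀ := m) rfl
      obtain ⟨y', hy'⟩ := top_degree_surjective hd U hU m (k + 1) (by omega) _ (cls_cokernel h) y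
      have hy'' : (Ext.mk₀ (CohCx.freeSheafMap (Opens.grothendieckTopology X) (homOfLE (le_top : U ≤ ⊤)))).comp y'
          (zero_add m) = y := hy'
      subst hy
      refine ⟨(y' : Ext (CohCx.freeSheaf (Opens.grothendieckTopology X) ⊤) (godSeq F).X₃ m).comp
        (godSeq_shortExact (F := F)).extClass rfl, ?_⟩
      show (Ext.mk₀ (CohCx.freeSheafMap (Opens.grothendieckTopology X) (homOfLE (le_top : U ≤ ⊤)))).comp
        ((y' : Ext (CohCx.freeSheaf (Opens.grothendieckTopology X) ⊤) (godSeq F).X₃ m).comp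
          (godSeq_shortExact (F := F)).extClass rfl) (zero_add (m + 1)) = _
      rw [← hy'']
      exact (Ext.comp_assoc _ _ _ (zero_add m) rfl (by omega)).symm

end Height

end Groth.Agent.TopVanish

end
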