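import Groth.Agent.TopVanish.Reduction
import Mathlib.Topology.KrullDimension
import Mathlib.Topology.NoetherianSpace

/-!
# Grothendieck vanishing for Noetherian spaces
-/

set_option autoImplicit false

universe u

open CategoryTheory CategoryTheory.Limits Opposite TopologicalSpace Topology Filter

noncomputable section

namespace Groth.Agent.TopVanish

variable {X : TopCat.{u}}

open scoped Classical in
/-- `ℤ` on `A ∩ Y`, extended by zero from `Y`. -/
def cd (A Y : Set X) : Dat X where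
  Y := Y
  N x := if x ∈ A ∧ x ∈ Y then ⊤ else ⊥
  off x hx := if_neg fun h => hx h.2

lemma cd_N_of_mem {A Y : Set X} {x : X} (h : x ∈ A) (h' : x ∈ Y) : (cd A Y).N x = ⊤ := if_pos ⟨h, h'⟩

lemma cd_N_of_notMem {A Y : Set X} {x : X} (h : ¬(x ∈ A ∧ x ∈ Y)) : (cd A Y).N x = ⊥ := if_neg h

lemma cd_isOp {A Y : Set X} (hA : IsOpen A) : (cd A Y).IsOp := fun x hxY a ha => by
  by_cases hx : x ∈ A
  · filter_upwards [hA.mem_nhds hx] with y hy hyY
    rw [cd_N_of_mem hy (show y ∈ Y from hyY)]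
    trivial
  · rw [cd_N_of_notMem fun h => hx h.1] at ha
    exact Eventually.of_forall fun y _ => by rw [AddSubgroup.mem_bot.1 ha]; exact zero_mem _

theorem isQcFlasque_cd {Y : Set X} (hY : IsPreirreducible Y) : IsQcFlasque (lcSh (cd Set.univ Y)) := by
  intro U V hle _ _ (f : secGroup (cd Set.univ Y) V)
  classical
  have hc : ∀ x y : V, (x : X) ∈ Y → (y : X) ∈ Y → f.1 x = f.1 y := by
    intro x y hx hy
    obtain ⟨W, hW, hxW, hcx⟩ := exists_const_nhd f x hx
    obtain ⟨W', hW', hyW', hcy⟩ := exists_const_nhd f y hy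
    obtain ⟨z, hzY, hz, hz'⟩ := hY W W' W.isOpen W'.isOpen ⟨x, hx, hxW⟩ ⟨y, hy, hyW'⟩
    exact (hcx ⟨z, hz⟩ hzY).symm.trans (hcy ⟨z, hz'⟩ hzY)
  by_cases hV : ∃ x : V, (x : X) ∈ Y
  · obtain ⟨x₀, hx₀⟩ := hV
    refine ⟨(⟨fun y => if (y : X) ∈ Y then f.1 x₀ else 0, fun y => ?_, fun y hy =>
      Eventually.of_forall fun z hz => by beta_reduce; rw [if_pos (show (y : X) ∈ Y from hy), if_pos (show (z : X) ∈ Y from hz)]⟩ :
      secGroup (cd Set.univ Y) U), Subtype.ext (funext fun y => ?_)⟩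
    · beta_reduce
      split_ifs with hy
      · rw [cd_N_of_mem (A := Set.univ) trivial hy]; trivial
      · exact zero_mem _
    · show (if (y : X) ∈ Y then f.1 x₀ else 0) = f.1 y
      split_ifs with hy
      · exact hc x₀ y hx₀ hy
      · exact (eq_zero_of_notMem _ f y hy).symm
  · refine ⟨0, Subtype.ext (funext fun y => (eq_zero_of_notMem _ f y fun hy => hV ⟨y, hy⟩).symm)⟩

variable [NoetherianSpace X]

/-- Vanishing for `ℤ` on a locally closed subset. -/
theorem van_cd : ∀ (Y : Closeds X) (n : ℕ),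
    (∀ s : LTSeries (IrreducibleCloseds X), (s.last : Set X) ⊆ (Y : Set X) → s.length < n) →
      ∀ A : Opens X, Van n (lcSh (cd (A : Set X) (Y : Set X))) := by
  intro Y
  induction Y using WellFoundedLT.induction with
  | _ Y ih =>
    intro n hn A
    rcases Set.eq_empty_or_nonempty ((A : Set X) ∩ (Y : Set X)) with he | hne
    · exact van_of_isZero (isZero_lcSh fun x =>
        cd_N_of_notMem fun h => Set.eq_empty_iff_forall_notMem.1 he x ⟨h.1, h.2⟩)
    by_cases hirr : IsPreirreducible (Y : Set X)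
    · -- irreducible case
      obtain ⟨x₀, hx₀A, hx₀Y⟩ := hne
      let T : IrreducibleCloseds X := ⟨Y, ⟨⟨x₀, hx₀Y⟩, hirr⟩, Y.isClosed⟩
      obtain ⟨m, rfl⟩ : ∃ m, n = m + 1 :=
        ⟨n - 1, by have := hn (RelSeries.singleton _ T) subset_rfl; omega⟩
      let D := cd (Set.univ : Set X) (Y : Set X)
      have hZ : (Y : Set X) ∩ (A : Set X)ᶜ ⊆ D.Y := Set.inter_subset_left
      have hcl : IsClosed ((Y : Set X) ∩ (A : Set X)ᶜ) := Y.isClosed.inter A.isOpen.isClosed_compl
      have hS := cutSeq_shortExact D hZ hcl (cd_isOp isOpen_univ)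
      have h2 : Van (m + 1) (cutSeq D hZ).X₂ := fun p hp => by
        obtain ⟨k, rfl⟩ : ∃ k, p = k + 1 := ⟨p - 1, by omega⟩
        exact subsingleton_HU_of_isQcFlasque (isQcFlasque_cd hirr) ⊤ (NoetherianSpace.isCompact _) k
      let Y' : Closeds X := ⟨(Y : Set X) ∩ (A : Set X)ᶜ, hcl⟩
      have hlt : Y' < Y := lt_of_le_of_ne Set.inter_subset_left fun h => by
        have : x₀ ∈ (Y' : Set X) := h ▸ hx₀Y
        exact this.2 hx₀A
      have h3 : Van m (cutSeq D hZ).X₃ := by
        refine van_congr (D := cd ((⊤ : Opens X) : Set X) (Y' : Set X)) rfl (fun x => ?_) (ih Y' hlt m (fun s hs => ?_) ⊤)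
        · by_cases hx : x ∈ (Y' : Set X)
          · refine (cd_N_of_mem (A := ((⊤ : Opens X) : Set X)) (Y := (Y' : Set X)) (x := x) trivial hx).trans ?_
            exact ((cut_N_of_mem D (s := (Y : Set X) ∩ (A : Set X)ᶜ) (Z := (Y : Set X) ∩ (A : Set X)ᶜ) hx hx).trans
              (cd_N_of_mem (A := Set.univ) trivial hx.1)).symm
          · exact (cd_N_of_notMem (A := ((⊤ : Opens X) : Set X)) (Y := (Y' : Set X)) fun h => hx h.2).trans
              (cut_N_of_notMem D (s := (Y : Set X) ∩ (A : Set X)ᶜ) (Z := (Y : Set X) ∩ (A : Set X)ᶜ) fun h => hx h.2).symm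
        · have hslt : s.last < T := by
            refine lt_of_le_of_ne (show (s.last : Set X) ⊆ (T : Set X) from hs.trans Set.inter_subset_left) fun h => ?_
            have : x₀ ∈ (Y' : Set X) := hs (h ▸ hx₀Y)
            exact this.2 hx₀A
          have := hn (s.snoc T hslt) (by simp only [RelSeries.last_snoc]; exact subset_rfl)
          simp only [RelSeries.snoc_length] at this
          omega
      refine van_congr (D := D.cut D.Y ((Y : Set X) ∩ (A : Set X)ᶜ)ᶜ) rfl (fun x => ?_) (van_X₁_succ hS h2 h3)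
      by_cases hx : x ∈ (A : Set X) ∧ x ∈ (Y : Set X)
      · rw [cut_N_of_mem D (show x ∈ ((Y : Set X) ∩ (A : Set X)ᶜ)ᶜ from fun h => h.2 hx.1)
          (show x ∈ D.Y from hx.2), cd_N_of_mem (A := Set.univ) trivial hx.2, cd_N_of_mem hx.1 hx.2]
      · exact (cut_N_of_notMem D (fun h : x ∈ ((Y : Set X) ∩ (A : Set X)ᶜ)ᶜ ∧ x ∈ D.Y =>
          hx ⟨not_not.1 fun hA => h.1 ⟨h.2, hA⟩, h.2⟩)).trans (cd_N_of_notMem hx).symm
    · -- reducible case
      rw [isPreirreducible_iff_isClosed_union_isClosed] at hirr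
      push Not at hirr
      obtain ⟨z₁, z₂, hz₁, hz₂, hYu, hY₁, hY₂⟩ := hirr
      let Y₁ : Closeds X := ⟨(Y : Set X) ∩ z₁, Y.isClosed.inter hz₁⟩
      let Y₂ : Closeds X := ⟨(Y : Set X) ∩ z₂, Y.isClosed.inter hz₂⟩
      have hlt₁ : Y₁ < Y := lt_of_le_of_ne Set.inter_subset_left fun h =>
        hY₁ fun x hx => ((h ▸ hx : x ∈ (Y₁ : Set X))).2
      have hlt₂ : Y₂ < Y := lt_of_le_of_ne Set.inter_subset_left fun h =>
        hY₂ fun x hx => ((h ▸ hx : x ∈ (Y₂ : Set X))).2
      let D := cd (A : Set X) (Y : Set X)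
      have hZ : (Y₁ : Set X) ⊆ D.Y := Set.inter_subset_left
      have hS := cutSeq_shortExact D hZ Y₁.isClosed (cd_isOp A.isOpen)
      have h3 : Van n (cutSeq D hZ).X₃ := by
        refine van_congr (D := cd (A : Set X) (Y₁ : Set X)) rfl (fun x => ?_)
          (ih Y₁ hlt₁ n (fun s hs => hn s (hs.trans Set.inter_subset_left)) A)
        by_cases hx : x ∈ (Y₁ : Set X)
        · rw [cut_N_of_mem D hx hx]
          by_cases hA : x ∈ (A : Set X)
          · rw [cd_N_of_mem hA hx, cd_N_of_mem hA hx.1]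
          · rw [cd_N_of_notMem fun h => hA h.1, cd_N_of_notMem fun h => hA h.1]
        · rw [cd_N_of_notMem fun h => hx h.2, cut_N_of_notMem D fun h => hx h.2]
      have h1 : Van n (cutSeq D hZ).X₁ := by
        let A' : Opens X := A ⊓ ⟨(Y₁ : Set X)ᶜ, Y₁.isClosed.isOpen_compl⟩
        have hA' : ∀ {x : X}, x ∈ (Y : Set X) → x ∉ (Y₁ : Set X) → x ∈ (Y₂ : Set X) := fun {x} hx h =>
          ⟨hx, (hYu hx).resolve_left fun h' => h ⟨hx, h'⟩⟩
        have hN : ∀ x, (cd (A' : Set X) (Y₂ : Set X)).N x = (D.cut D.Y (Y₁ : Set X)ᶜ).N x := fun x => by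
          by_cases h : x ∈ (A' : Set X) ∧ x ∈ (Y₂ : Set X)
          · rw [cd_N_of_mem h.1 h.2, cut_N_of_mem D (show x ∈ (Y₁ : Set X)ᶜ from h.1.2) (show x ∈ D.Y from h.2.1),
              cd_N_of_mem h.1.1 h.2.1]
          · rw [cd_N_of_notMem h]
            by_cases h' : x ∈ (Y₁ : Set X)ᶜ ∧ x ∈ D.Y
            · rw [cut_N_of_mem D h'.1 h'.2, cd_N_of_notMem fun hh => h ⟨⟨hh.1, h'.1⟩, hA' hh.2 h'.1⟩]
            · rw [cut_N_of_notMem D h']
        let g : Dat.Hom (D.cut D.Y (Y₁ : Set X)ᶜ) (cd (A' : Set X) (Y₂ : Set X)) :=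
          ⟨(Set.inter_subset_left : (Y₂ : Set X) ⊆ (Y : Set X)), fun x _ => (hN x).ge⟩
        have hoff : ∀ x, x ∉ (Y₂ : Set X) → (D.cut D.Y (Y₁ : Set X)ᶜ).N x = ⊥ := fun x hx =>
          (hN x).symm.trans (cd_N_of_notMem fun h => hx h.2)
        have hoff₁ : ∀ x, x ∈ (Y₁ : Set X) → (D.cut D.Y (Y₁ : Set X)ᶜ).N x = ⊥ := fun x hx =>
          cut_N_of_notMem D fun h => h.1 hx
        haveI : IsIso (rmap g) := isIso_rmap_of_bijective g fun U => by
          refine ⟨fun (a b : secGroup _ U) e => Subtype.ext (funext fun x => ?_),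
            fun (c : secGroup (cd (A' : Set X) (Y₂ : Set X)) U) => ?_⟩
          · by_cases hx : (x : X) ∈ (Y₂ : Set X)
            · exact (rmap_apply_of_mem g a x hx).symm.trans
                ((congrFun (congrArg Subtype.val e) x).trans (rmap_apply_of_mem g b x hx))
            · exact (AddSubgroup.mem_bot.1 (hoff _ hx ▸ a.2.1 x)).trans (AddSubgroup.mem_bot.1 (hoff _ hx ▸ b.2.1 x)).symm
          · refine ⟨(⟨c.1, fun x => hN x ▸ c.2.1 x, fun x hx => ?_⟩ : secGroup (D.cut D.Y (Y₁ : Set X)ᶜ) U),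
              Subtype.ext (funext fun x => ?_)⟩
            · have hz : ∀ y : U, (y : X) ∈ (Y₁ : Set X) → c.1 y = 0 := fun y hy =>
                AddSubgroup.mem_bot.1 (((hN y).trans (hoff₁ _ hy)) ▸ c.2.1 y)
              by_cases hx₂ : (x : X) ∈ (Y₂ : Set X)
              · by_cases hx₁ : (x : X) ∈ (Y₁ : Set X)
                · filter_upwards [c.2.2 x hx₂] with y hy hyY
                  by_cases hy₁ : (y : X) ∈ (Y₁ : Set X)
                  · rw [hz y hy₁, hz x hx₁]
                  · exact hy (hA' hyY hy₁)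
                · filter_upwards [c.2.2 x hx₂, (Y₁.isClosed.isOpen_compl.preimage continuous_subtype_val).mem_nhds
                    (show x ∈ (Subtype.val ⁻¹' (Y₁ : Set X)ᶜ : Set U) from hx₁)] with y hy hy₁ hyY
                  exact hy (hA' hyY hy₁)
              · have hx₀ : c.1 x = 0 := eq_zero_of_notMem _ c x hx₂
                filter_upwards [(Y₂.isClosed.isOpen_compl.preimage continuous_subtype_val).mem_nhds
                    (show x ∈ (Subtype.val ⁻¹' (Y₂ : Set X)ᶜ : Set U) from hx₂)] with y hy hyY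
                rw [hx₀]
                exact eq_zero_of_notMem _ c y hy
            · by_cases hx : (x : X) ∈ (Y₂ : Set X)
              · exact rmap_apply_of_mem g _ x hx
              · exact (rmap_apply_of_notMem g _ x hx).trans (eq_zero_of_notMem _ c x hx).symm
        exact van_of_iso (asIso (rmap g)).symm (ih Y₂ hlt₂ n (fun s hs => hn s (hs.trans Set.inter_subset_left)) A')
      exact van_X₂ hS h1 h3

/-- Grothendieck vanishing. -/
theorem van_of_dim (d : ℕ) (hd : topologicalKrullDim X ≤ d) (F : CohTop.Ab X) : Van (d + 1) F := by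
  haveI : CompactSpace X := inferInstance
  refine van_all (fun U _ => van_of_iso (freeIsoSgl U).symm ?_) F
  refine van_congr (D := cd (U : Set X) ((⊤ : Closeds X) : Set X)) rfl (fun x => ?_)
    (van_cd ⊤ (d + 1) (fun s _ => ?_) U)
  · by_cases hx : x ∈ (U : Set X)
    · rw [cd_N_of_mem hx (show x ∈ ((⊤ : Closeds X) : Set X) from trivial), sgl_N_of_mem 1 hx, eq_comm, eq_top_iff]
      exact fun z _ => Int.mem_zmultiples_iff.2 (one_dvd z)
    · rw [cd_N_of_notMem fun h => hx h.1, sgl_N_of_notMem 1 hx]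
  · have h := (Order.LTSeries.length_le_krullDim s).trans (show Order.krullDim (IrreducibleCloseds X) ≤ _ from hd)
    exact Nat.lt_succ_of_le (by exact_mod_cast h)

end Groth.Agent.TopVanish

end
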