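import Groth.Agent.SiteBase.Top
import Groth.Agent.SiteBase.Cohom
import Mathlib.Topology.Sheaves.Abelian
import Mathlib.Topology.Sheaves.SheafCondition.UniqueGluing

/-!
# Subsheaves of locally constant integer functions
-/

set_option autoImplicit false

universe u

open CategoryTheory CategoryTheory.Limits Opposite TopologicalSpace Topology Filter

noncomputable section

namespace Groth.Agent.TopVanish

/-- A set `Y` and subgroups of `ℤ` at all points. -/
structure Dat (X : TopCat.{u}) where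
  Y : Set X
  N : X → AddSubgroup ℤ
  off : ∀ x, x ∉ Y → N x = ⊥

variable {X : TopCat.{u}} (D : Dat X)

/-- Functions with values in `N`, locally constant on `Y`. -/
def secGroup (U : Opens X) : AddSubgroup (U → ℤ) where
  carrier := {f | (∀ x : U, f x ∈ D.N x) ∧
    ∀ x : U, (x : X) ∈ D.Y → Filter.Eventually (fun y : U => (y : X) ∈ D.Y → f y = f x) (𝓝 x)}
  zero_mem' := ⟨fun x => zero_mem _, fun x _ => Eventually.of_forall fun _ _ => rfl⟩
  add_mem' {f g} hf hg := ⟨fun x => add_mem (hf.1 x) (hg.1 x), fun x hx =>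
    ((hf.2 x hx).and (hg.2 x hx)).mono fun y h hy => congrArg₂ (· + ·) (h.1 hy) (h.2 hy)⟩
  neg_mem' {f} hf := ⟨fun x => neg_mem (hf.1 x), fun x hx =>
    (hf.2 x hx).mono fun y h hy => congrArg Neg.neg (h hy)⟩

lemma eq_zero_of_notMem {U : Opens X} (f : secGroup D U) (x : U) (hx : (x : X) ∉ D.Y) : f.1 x = 0 :=
  AddSubgroup.mem_bot.1 (D.off x hx ▸ f.2.1 x)

lemma tendsto_inclusion {U V : Opens X} (h : V ≤ U) (x : V) :
    Tendsto (fun y : V => (⟨y.1, h y.2⟩ : U)) (𝓝 x) (𝓝 ⟨x.1, h x.2⟩) :=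
  (continuous_subtype_val.subtype_mk _).tendsto x

/-- The presheaf of sections. -/
def lcPsh : TopCat.Presheaf AddCommGrpCat.{u} X where
  obj U := AddCommGrpCat.of (secGroup D U.unop)
  map {U V} i := AddCommGrpCat.ofHom (AddMonoidHom.mk'
    (fun f : secGroup D U.unop => (⟨fun x => f.1 ⟨x.1, leOfHom i.unop x.2⟩,
      fun x => f.2.1 ⟨x.1, leOfHom i.unop x.2⟩, fun x hx => (tendsto_inclusion (leOfHom i.unop) x).eventually (f.2.2 _ hx)⟩ :
        secGroup D V.unop))
    (fun _ _ => rfl))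
  map_id _ := rfl
  map_comp _ _ := rfl

theorem lcPsh_isSheaf : (lcPsh D).IsSheaf := by
  rw [TopCat.Presheaf.isSheaf_iff_isSheafUniqueGluing]
  intro ι U sf hsf
  classical
  have hmem : ∀ w : (iSup U : Opens X), ∃ i, (w : X) ∈ U i := fun w => Opens.mem_iSup.1 w.2
  choose idx hidx using hmem
  have agree : ∀ (w : X) (i j : ι) (hi : w ∈ U i) (hj : w ∈ U j), (sf i).1 ⟨w, hi⟩ = (sf j).1 ⟨w, hj⟩ :=
    fun w i j hi hj => congrFun (congrArg Subtype.val (hsf i j)) ⟨w, hi, hj⟩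
  let f : ↥(iSup U : Opens X) → ℤ := fun w => (sf (idx w)).1 ⟨w.1, hidx w⟩
  refine ⟨⟨f, fun x => (sf (idx x)).2.1 ⟨x.1, hidx x⟩, fun x hx => ?_⟩, fun i => ?_, fun τ hτ => ?_⟩
  · have hemb : IsOpenEmbedding (Set.inclusion (s := (U (idx x) : Set X)) (t := ((iSup U : Opens X) : Set X))
        (fun y hy => Opens.mem_iSup.2 ⟨_, hy⟩)) :=
      IsOpenEmbedding.inclusion _ ((U (idx x)).isOpen.preimage continuous_subtype_val)
    have hn : Filter.map (Set.inclusion (fun y hy => Opens.mem_iSup.2 ⟨_, hy⟩))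
        (𝓝 (⟨x.1, hidx x⟩ : U (idx x))) = 𝓝 (x : (iSup U : Opens X)) := hemb.map_nhds_eq _
    refine hn ▸ Filter.eventually_map.2 ?_
    refine ((sf (idx x)).2.2 ⟨x.1, hidx x⟩ hx).mono fun y hy hyY => ?_
    exact (agree y.1 _ (idx x) (hidx (⟨y.1, Opens.mem_iSup.2 ⟨_, y.2⟩⟩ : (iSup U : Opens X))) y.2).trans (hy hyY)
  · exact Subtype.ext (funext fun w => agree _ _ _ _ w.2)
  · exact Subtype.ext (funext fun w => congrFun (congrArg Subtype.val (hτ (idx w))) ⟨w.1, hidx w⟩)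

/-- The sheaf of sections. -/
def lcSh : CohTop.Ab X := ⟨lcPsh D, lcPsh_isSheaf D⟩

lemma lcSh_res {U V : Opens X} (h : V ≤ U) (f : secGroup D U) (x : V) :
    ((lcSh D).obj.map (homOfLE h).op f : secGroup D V).1 x = f.1 ⟨x.1, h x.2⟩ := rfl

/-- Restriction to a smaller `Y`, increasing the subgroups. -/
structure Dat.Hom (D D' : Dat X) : Prop where
  sub : D'.Y ⊆ D.Y
  le : ∀ x ∈ D'.Y, D.N x ≤ D'.N x

variable {D} {D' : Dat X}

open scoped Classical in
/-- The map of sheaves attached to a `Dat.Hom`. -/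
def rmap (h : Dat.Hom D D') : lcSh D ⟶ lcSh D' :=
  ObjectProperty.homMk
    { app := fun U => AddCommGrpCat.ofHom (AddMonoidHom.mk'
        (fun f : secGroup D U.unop => (⟨fun x => if (x : X) ∈ D'.Y then f.1 x else 0,
          fun x => by
            beta_reduce
            split_ifs with hx
            · exact h.le _ hx (f.2.1 x)
            · exact zero_mem _,
          fun x hx => (f.2.2 x (h.sub hx)).mono fun y hy hyY => by
            beta_reduce
            rw [if_pos hx, if_pos hyY, hy (h.sub hyY)]⟩ : secGroup D' U.unop))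
        (fun f g => Subtype.ext (funext fun x => by
          show (if (x : X) ∈ D'.Y then f.1 x + g.1 x else 0) =
            (if (x : X) ∈ D'.Y then f.1 x else 0) + (if (x : X) ∈ D'.Y then g.1 x else 0)
          split_ifs <;> simp)))
      naturality := fun U V i => AddCommGrpCat.hom_ext (AddMonoidHom.ext fun f => Subtype.ext (funext fun x => rfl)) }

lemma rmap_apply_of_mem (h : Dat.Hom D D') {U : Opens X} (f : secGroup D U) (x : U) (hx : (x : X) ∈ D'.Y) :
    ((rmap h).hom.app (op U) f : secGroup D' U).1 x = f.1 x := if_pos hx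

lemma rmap_apply_of_notMem (h : Dat.Hom D D') {U : Opens X} (f : secGroup D U) (x : U) (hx : (x : X) ∉ D'.Y) :
    ((rmap h).hom.app (op U) f : secGroup D' U).1 x = 0 := if_neg hx

lemma rmap_apply_of_eq (h : Dat.Hom D D') (hY : D.Y ⊆ D'.Y) {U : Opens X} (f : secGroup D U) (x : U) :
    ((rmap h).hom.app (op U) f : secGroup D' U).1 x = f.1 x := by
  by_cases hx : (x : X) ∈ D'.Y
  · exact rmap_apply_of_mem h f x hx
  · rw [rmap_apply_of_notMem h f x hx, eq_zero_of_notMem D f x fun h' => hx (hY h')]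

section Exact

variable (E : ShortComplex (CohTop.Ab X))

/-- Short exactness from exactness of local sections. -/
theorem shortExact_of_local
    (hf : ∀ (U : Opens X) (a : E.X₁.obj.obj (op U)), E.f.hom.app (op U) a = 0 → a = 0)
    (hfg : ∀ (U : Opens X) (b : E.X₂.obj.obj (op U)), E.g.hom.app (op U) b = 0 → ∀ x ∈ U,
      ∃ (V : Opens X) (hV : V ≤ U), x ∈ V ∧ ∃ a : E.X₁.obj.obj (op V), E.f.hom.app (op V) a = E.X₂.obj.map (homOfLE hV).op b)
    (hg : ∀ (U : Opens X) (c : E.X₃.obj.obj (op U)), ∀ x ∈ U,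
      ∃ (V : Opens X) (hV : V ≤ U), x ∈ V ∧ ∃ b : E.X₂.obj.obj (op V), E.g.hom.app (op V) b = E.X₃.obj.map (homOfLE hV).op c) :
    E.ShortExact := by
  haveI : Mono E.f := by
    haveI : ∀ U, Mono (E.f.hom.app U) := fun U =>
      (AddCommGrpCat.mono_iff_injective _).2 ((injective_iff_map_eq_zero _).2 (hf U.unop))
    haveI : Mono E.f.hom := NatTrans.mono_of_mono_app _
    exact (sheafToPresheaf _ _).mono_of_mono_map (show Mono E.f.hom from inferInstance)
  haveI : Epi E.g := by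
    refine (Sheaf.isLocallySurjective_iff_epi' AddCommGrpCat.{u} E.g).1 ⟨fun {U} c x hx => ?_⟩
    obtain ⟨V, hV, hxV, b, hb⟩ := hg U c x hx
    exact ⟨V, homOfLE hV, ⟨b, hb⟩, hxV⟩
  refine ShortComplex.ShortExact.mk' ((TopCat.Sheaf.exact_iff_stalkFunctor_map_exact _).2 fun y => ?_) ‹_› ‹_›
  rw [ShortComplex.ab_exact_iff]
  intro t ht
  obtain ⟨U, hy, b, rfl⟩ := TopCat.Presheaf.germ_exist E.X₂.obj t
  have h0 : TopCat.Presheaf.germ E.X₃.obj U y hy (E.g.hom.app (op U) b) = TopCat.Presheaf.germ E.X₃.obj U y hy 0 := by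
    refine (TopCat.Presheaf.stalkFunctor_map_germ_apply U y hy E.g.hom b).symm.trans (Eq.trans ht ?_)
    exact (map_zero _).symm
  obtain ⟨W, hW, i, j, hij⟩ := TopCat.Presheaf.germ_eq E.X₃.obj y hy hy _ _ h0
  have hb : E.g.hom.app (op W) (E.X₂.obj.map i.op b) = 0 := by
    refine ((ConcreteCategory.congr_hom (E.g.hom.naturality i.op) b).trans hij).trans ?_
    exact map_zero _
  obtain ⟨V, hV, hyV, a, ha⟩ := hfg W _ hb y hW
  refine ⟨TopCat.Presheaf.germ E.X₁.obj V y hyV a, ?_⟩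
  refine (TopCat.Presheaf.stalkFunctor_map_germ_apply V y hyV E.f.hom a).trans ?_
  rw [ha]
  exact ((TopCat.Presheaf.germ_res_apply E.X₂.obj (homOfLE hV) y hyV _).trans
    (TopCat.Presheaf.germ_res_apply E.X₂.obj i y hW b))

end Exact

/-- The datum with the subgroups cut down to a set, and `Y` replaced by `Z`. -/
def Dat.cut (D : Dat X) (Z s : Set X) : Dat X where
  Y := Z
  N x := open Classical in if x ∈ s ∧ x ∈ Z then D.N x else ⊥
  off x hx := if_neg fun h => hx h.2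

/-- The subgroups grow locally along `Y`. -/
def Dat.IsOp (D : Dat X) : Prop :=
  ∀ x ∈ D.Y, ∀ a ∈ D.N x, ∀ᶠ y in 𝓝 x, y ∈ D.Y → a ∈ D.N y

lemma cut_N_of_mem (D : Dat X) {Z s : Set X} {x : X} (hs : x ∈ s) (hz : x ∈ Z) :
    (D.cut Z s).N x = D.N x := if_pos ⟨hs, hz⟩

lemma cut_N_of_notMem (D : Dat X) {Z s : Set X} {x : X} (h : ¬(x ∈ s ∧ x ∈ Z)) : (D.cut Z s).N x = ⊥ :=
  if_neg h

lemma cut_hom_self (D : Dat X) (s : Set X) : Dat.Hom (D.cut D.Y s) D := ⟨subset_rfl, fun x _ => by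
  by_cases h : x ∈ s ∧ x ∈ D.Y
  · rw [cut_N_of_mem D h.1 h.2]
  · rw [cut_N_of_notMem D h]; exact bot_le⟩

lemma hom_cut (D : Dat X) {Z : Set X} (hZ : Z ⊆ D.Y) : Dat.Hom D (D.cut Z Z) := ⟨hZ, fun x hx => by
  exact (cut_N_of_mem D (show x ∈ Z from hx) (show x ∈ Z from hx)).symm.le⟩

/-- Cutting along a closed subset. -/
theorem cut_comp (D : Dat X) {Z : Set X} (hZ : Z ⊆ D.Y) : rmap (cut_hom_self D Zᶜ) ≫ rmap (hom_cut D hZ) = 0 := by
  refine Sheaf.hom_ext (NatTrans.ext (funext fun U => ?_))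
  refine AddCommGrpCat.hom_ext (AddMonoidHom.ext fun (f : secGroup _ U.unop) => Subtype.ext (funext fun x => ?_))
  show ((rmap (hom_cut D hZ)).hom.app U ((rmap (cut_hom_self D Zᶜ)).hom.app U f) : secGroup _ U.unop).1 x = 0
  by_cases hx : (x : X) ∈ Z
  · refine (rmap_apply_of_mem (hom_cut D hZ) _ x hx).trans ?_
    refine (rmap_apply_of_mem (cut_hom_self D Zᶜ) f x (hZ hx)).trans ?_
    exact AddSubgroup.mem_bot.1 (cut_N_of_notMem D (show ¬((x : X) ∈ Zᶜ ∧ (x : X) ∈ D.Y) from fun h => h.1 hx) ▸ f.2.1 x)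
  · exact rmap_apply_of_notMem (hom_cut D hZ) _ x hx

/-- The short complex of a closed subset `Z` of `Y`. -/
def cutSeq (D : Dat X) {Z : Set X} (hZ : Z ⊆ D.Y) : ShortComplex (CohTop.Ab X) :=
  ShortComplex.mk _ _ (cut_comp D hZ)

theorem cutSeq_shortExact (D : Dat X) {Z : Set X} (hZ : Z ⊆ D.Y) (hcl : IsClosed Z) (hop : D.IsOp) :
    (cutSeq D hZ).ShortExact := by
  refine shortExact_of_local _ (fun U (f : secGroup _ U) hf => ?_) (fun U (f : secGroup D U) hf x hxU => ?_)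
    (fun U (f : secGroup _ U) x hxU => ?_)
  · refine Subtype.ext (funext fun x => ?_)
    exact (rmap_apply_of_eq (cut_hom_self D Zᶜ) subset_rfl f x).symm.trans (congrFun (congrArg Subtype.val hf) x)
  · refine ⟨U, le_rfl, hxU, (⟨f.1, fun y => ?_, f.2.2⟩ : secGroup (D.cut D.Y Zᶜ) U), Subtype.ext (funext fun y => ?_)⟩
    · by_cases hy : (y : X) ∈ Z
      · rw [← rmap_apply_of_mem (hom_cut D hZ) f y hy]
        rw [show ((rmap (hom_cut D hZ)).hom.app (op U) f : secGroup _ U).1 y = 0 from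
          congrFun (congrArg Subtype.val hf) y]
        exact zero_mem _
      · by_cases hyY : (y : X) ∈ D.Y
        · rw [cut_N_of_mem D (show (y : X) ∈ Zᶜ from hy) hyY]; exact f.2.1 y
        · rw [eq_zero_of_notMem D f y hyY]
          exact zero_mem _
    · exact rmap_apply_of_eq (cut_hom_self D Zᶜ) subset_rfl _ y
  · by_cases hx : x ∈ Z
    · have hm : f.1 ⟨x, hxU⟩ ∈ D.N x := cut_N_of_mem D hx hx ▸ f.2.1 ⟨x, hxU⟩
      have h1 := ((hop x (hZ hx) _ hm)).and (show ∀ᶠ y in 𝓝 x, y ∈ Z → ∀ hy : y ∈ U, f.1 ⟨y, hy⟩ = f.1 ⟨x, hxU⟩ from by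
        have := f.2.2 ⟨x, hxU⟩ hx
        rw [eventually_nhds_iff] at this ⊢
        obtain ⟨t, ht, hto, hxt⟩ := this
        obtain ⟨t', ht', rfl⟩ := isOpen_induced_iff.1 hto
        exact ⟨t' ∩ U, fun y hy hyZ hyU => ht ⟨y, hyU⟩ hy.1 hyZ, ht'.inter U.isOpen, hxt, hxU⟩)
      obtain ⟨t, ht, hto, hxt⟩ := eventually_nhds_iff.1 h1
      classical
      let V : Opens X := ⟨t, hto⟩ ⊓ U
      refine ⟨V, inf_le_right, ⟨hxt, hxU⟩,
        (⟨fun y => if (y : X) ∈ D.Y then f.1 ⟨x, hxU⟩ else 0, fun y => ?_, fun y hy => ?_⟩ : secGroup D V), ?_⟩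
      · beta_reduce
        split_ifs with hy
        · exact (ht y y.2.1).1 hy
        · exact zero_mem _
      · exact Eventually.of_forall fun z hz => by beta_reduce; rw [if_pos hy, if_pos hz]
      · refine Subtype.ext (funext fun y => ?_)
        by_cases hy : (y : X) ∈ Z
        · refine (rmap_apply_of_mem (hom_cut D hZ) (U := V) _ y hy).trans ?_
          show (if _ then _ else _) = f.1 ⟨y.1, y.2.2⟩
          rw [if_pos (hZ hy), (ht y y.2.1).2 hy y.2.2]
        · exact (rmap_apply_of_notMem (hom_cut D hZ) (U := V) _ y hy).trans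
            (eq_zero_of_notMem _ f ⟨y.1, y.2.2⟩ hy).symm
    · let V : Opens X := ⟨Zᶜ, hcl.isOpen_compl⟩ ⊓ U
      refine ⟨V, inf_le_right, ⟨hx, hxU⟩, 0, ?_⟩
      refine (map_zero ((rmap (hom_cut D hZ)).hom.app (op V)).hom).trans ?_
      exact Subtype.ext (funext fun y => (eq_zero_of_notMem _ f ⟨y.1, y.2.2⟩ y.2.1).symm)

/-- A comparison map which is bijective on sections. -/
theorem isIso_rmap_of_bijective (h : Dat.Hom D D')
    (hb : ∀ U : Opens X, Function.Bijective ((rmap h).hom.app (op U))) : IsIso (rmap h) := by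
  haveI : ∀ U, IsIso ((rmap h).hom.app U) := fun U => (ConcreteCategory.isIso_iff_bijective _).2 (hb U.unop)
  haveI : IsIso (rmap h).hom := NatIso.isIso_of_isIso_app _
  haveI : IsIso ((sheafToPresheaf _ _).map (rmap h)) := ‹_›
  exact isIso_of_reflects_iso (rmap h) (sheafToPresheaf _ _)

end Groth.Agent.TopVanish

end
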