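import Groth.Agent.SiteBase.Top
import Groth.Agent.SiteBase.AbSecExact
import Groth.Agent.EtFound.FilteredSectionsGen
import Groth.Agent.EtLC12.ExtColimGen
import Mathlib.Topology.Spectral.Prespectral
import Mathlib.Topology.QuasiSeparated

/-!
# Filtered colimits and cohomology over compact opens
-/

set_option autoImplicit false

universe u

open CategoryTheory CategoryTheory.Limits Opposite TopologicalSpace Abelian

noncomputable section

namespace Groth.Agent.TopVanish

variable {X : TopCat.{u}}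

/-- Restrictions between compact opens are surjective. -/
def IsQcFlasque (F : CohTop.Ab X) : Prop :=
  ∀ ⦃U V : Opens X⦄ (h : V ≤ U), IsCompact (U : Set X) → IsCompact (V : Set X) →
    Function.Surjective (F.obj.map (homOfLE h).op).hom

theorem isQcFlasque_of_injective (I : CohTop.Ab X) [Injective I] : IsQcFlasque I := fun U V h _ _ =>
  have := SiteBase.isFlasque_of_injective I
  (AddCommGrpCat.epi_iff_surjective _).1 (@TopCat.Presheaf.IsFlasque.epi _ _ _ _ this _ _ (homOfLE h).op)

lemma res_res (F : CohTop.Ab X) {A B C : Opens X} (h₁ : B ≤ A) (h₂ : C ≤ B) (x : F.obj.obj (op A)) :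
    F.obj.map (homOfLE h₂).op (F.obj.map (homOfLE h₁).op x) = F.obj.map (homOfLE (h₂.trans h₁)).op x := by
  rw [← ConcreteCategory.comp_apply, ← F.obj.map_comp]
  rfl

lemma res_app {F G : CohTop.Ab X} (φ : F ⟶ G) {A B : Opens X} (h : B ≤ A) (x : F.obj.obj (op A)) :
    G.obj.map (homOfLE h).op (φ.hom.app (op A) x) = φ.hom.app (op B) (F.obj.map (homOfLE h).op x) :=
  (ConcreteCategory.congr_hom (φ.hom.naturality (homOfLE h).op) x).symm

lemma glue_two (F : CohTop.Ab X) {A B C : Opens X} (hC : C = A ⊔ B) (hA : A ≤ C) (hB : B ≤ C)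
    (a : F.obj.obj (op A)) (b : F.obj.obj (op B))
    (h : F.obj.map (homOfLE (inf_le_left : A ⊓ B ≤ A)).op a = F.obj.map (homOfLE inf_le_right).op b) :
    ∃ c : F.obj.obj (op C), F.obj.map (homOfLE hA).op c = a ∧ F.obj.map (homOfLE hB).op c = b := by
  let Ws : ULift.{u} Bool → Opens X := fun q => if q.down then B else A
  let sf : ∀ q : ULift.{u} Bool, ToType (F.obj.obj (op (Ws q))) := fun ⟨q⟩ => match q with
    | true => b
    | false => a
  obtain ⟨t, ht, -⟩ := TopCat.Sheaf.existsUnique_gluing' (⟨F.obj, F.2⟩ : TopCat.Sheaf AddCommGrpCat.{u} X) Ws C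
    (fun q => homOfLE (by rcases q with ⟨_ | _⟩ <;> [exact hA; exact hB]))
    (by rw [hC]; exact sup_le (le_iSup Ws ⟨false⟩) (le_iSup Ws ⟨true⟩)) sf (by
      rintro ⟨p⟩ ⟨q⟩
      cases p <;> cases q
      · rfl
      · exact h
      · show F.obj.map (Opens.infLELeft B A).op b = F.obj.map (Opens.infLERight B A).op a
        have := congrArg (F.obj.map (homOfLE (le_of_eq (inf_comm B A))).op) h
        rw [res_res, res_res] at this
        exact this.symm
      · rfl)
  exact ⟨t, ht ⟨false⟩, ht ⟨true⟩⟩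

variable [PrespectralSpace X] [QuasiSeparatedSpace X]

lemma exists_compact_le {U : Opens X} {x : X} (hx : x ∈ U) :
    ∃ W : Opens X, x ∈ W ∧ IsCompact (W : Set X) ∧ W ≤ U := by
  obtain ⟨W, ⟨hWo, hWc⟩, hxW, hWU⟩ :=
    PrespectralSpace.isTopologicalBasis.exists_subset_of_mem_open (SetLike.mem_coe.2 hx) U.isOpen
  exact ⟨⟨W, hWo⟩, hxW, hWc, hWU⟩

lemma isCompact_inf {U V : Opens X} (hU : IsCompact (U : Set X)) (hV : IsCompact (V : Set X)) :
    IsCompact ((U ⊓ V : Opens X) : Set X) :=
  QuasiSeparatedSpace.inter_isCompact (U : Set X) (V : Set X) U.isOpen hU V.isOpen hV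

lemma isCompact_sup {ι : Type*} (s : Finset ι) (W : ι → Opens X) (h : ∀ i, IsCompact (W i : Set X)) :
    IsCompact ((s.sup W : Opens X) : Set X) := by
  rw [Opens.coe_finset_sup]
  classical
  induction s using Finset.induction with
  | empty => simp
  | @insert i s hi ih => rw [Finset.sup_insert]; exact (h i).union ih

/-- Lifting sections over compact opens. -/
theorem sections_surjective {E : ShortComplex (CohTop.Ab X)} (hE : E.ShortExact) (h1 : IsQcFlasque E.X₁)
    (U : Opens X) (hU : IsCompact (U : Set X)) : Function.Surjective (E.g.hom.app (op U)).hom := by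
  classical
  haveI := hE.mono_f
  haveI := hE.epi_g
  intro z
  have hloc : Presheaf.IsLocallySurjective (Opens.grothendieckTopology X) E.g.hom :=
    (Sheaf.isLocallySurjective_iff_epi' AddCommGrpCat.{u} E.g).2 inferInstance
  have hz := hloc.imageSieve_mem (U := U) z
  have hl : ∀ x : U, ∃ W : Opens X, (x : X) ∈ W ∧ IsCompact (W : Set X) ∧
      ∃ (hW : W ≤ U) (t : E.X₂.obj.obj (op W)), E.g.hom.app (op W) t = E.X₃.obj.map (homOfLE hW).op z := by
    intro x
    obtain ⟨V, i, ⟨t, ht⟩, hxV⟩ := hz x.1 x.2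
    obtain ⟨W, hxW, hWc, hWV⟩ := exists_compact_le hxV
    refine ⟨W, hxW, hWc, hWV.trans (leOfHom i), E.X₂.obj.map (homOfLE hWV).op t, ?_⟩
    rw [← res_app, show E.g.hom.app (op V) t = E.X₃.obj.map i.op z from ht, ← res_res E.X₃ (leOfHom i) hWV]
    rfl
  choose W hxW hWc hWU t ht using hl
  obtain ⟨s, hs⟩ := hU.elim_finite_subcover (fun x : U => (W x : Set X)) (fun x => (W x).isOpen)
    (fun x hx => Set.mem_iUnion.2 ⟨⟨x, hx⟩, hxW ⟨x, hx⟩⟩)
  have key : ∀ r : Finset U, ∃ (hA : r.sup W ≤ U) (a : E.X₂.obj.obj (op (r.sup W))),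
      E.g.hom.app (op (r.sup W)) a = E.X₃.obj.map (homOfLE hA).op z := by
    intro r
    induction r using Finset.induction with
    | empty =>
      refine ⟨by simp, 0, ?_⟩
      exact TopCat.Sheaf.eq_of_locally_eq' (⟨E.X₃.obj, E.X₃.2⟩ : TopCat.Sheaf AddCommGrpCat.{u} X)
        (fun i : PEmpty.{u + 1} => i.elim) _ (fun i => i.elim) (by simp) _ _ (fun i => i.elim)
    | @insert x r _ ih =>
      obtain ⟨hA, a, ha⟩ := ih
      have hE' := (SiteBase.secExact_iff E (r.sup W ⊓ W x)).1 (hE.exact.map_of_mono_of_preservesKernel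
        (sheafToPresheaf _ AddCommGrpCat.{u} ⋙ (evaluation (Opens X)ᵒᵖ AddCommGrpCat.{u}).obj (op _))
        inferInstance inferInstance)
      obtain ⟨d, hd⟩ := hE' (E.X₂.obj.map (homOfLE inf_le_left).op a - E.X₂.obj.map (homOfLE inf_le_right).op (t x))
        (by rw [map_sub, ← res_app, ← res_app, ha, ht x, res_res, res_res, sub_self])
      obtain ⟨d', hd'⟩ := h1 (inf_le_right : r.sup W ⊓ W x ≤ W x) (hWc x) (isCompact_inf (isCompact_sup r W hWc) (hWc x)) d
      have hz0 : E.g.hom.app (op (W x)) (E.f.hom.app (op (W x)) d') = 0 :=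
        ConcreteCategory.congr_hom (NatTrans.congr_app (congrArg (fun q : E.X₁ ⟶ E.X₃ => q.hom) E.zero) (op (W x))) d'
      obtain ⟨c, hc₁, hc₂⟩ := glue_two E.X₂ (Finset.sup_insert.trans (sup_comm _ _))
        (Finset.sup_mono (Finset.subset_insert x r)) (Finset.le_sup (Finset.mem_insert_self x r)) a
        (t x + E.f.hom.app (op (W x)) d') (by rw [map_add, res_app, hd', hd, add_sub_cancel])
      refine ⟨Finset.sup_le fun y _ => hWU y, c, ?_⟩
      refine TopCat.Sheaf.eq_of_locally_eq₂ (⟨E.X₃.obj, E.X₃.2⟩ : TopCat.Sheaf AddCommGrpCat.{u} X)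
        (homOfLE (Finset.sup_mono (Finset.subset_insert x r)) : r.sup W ⟶ _)
        (homOfLE (Finset.le_sup (Finset.mem_insert_self x r)) : W x ⟶ _)
        (by rw [Finset.sup_insert, sup_comm]) _ _ ?_ ?_
      · refine ((res_app E.g _ c).trans ((congrArg _ hc₁).trans ha)).trans ?_
        exact (res_res E.X₃ _ _ z).symm
      · refine ((res_app E.g _ c).trans (congrArg _ hc₂)).trans ?_
        rw [map_add, hz0, add_zero, ht x]
        exact (res_res E.X₃ _ _ z).symm
  obtain ⟨hA, a, ha⟩ := key s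
  have hUA : U ≤ s.sup W := fun y hy => by
    obtain ⟨x, hx, hyx⟩ := Set.mem_iUnion₂.1 (hs hy)
    exact Finset.le_sup (f := W) hx hyx
  refine ⟨E.X₂.obj.map (homOfLE hUA).op a, ?_⟩
  show E.g.hom.app (op U) (E.X₂.obj.map (homOfLE hUA).op a) = z
  rw [← res_app, ha, res_res]
  simp

theorem isQcFlasque_X₃ {E : ShortComplex (CohTop.Ab X)} (hE : E.ShortExact) (h1 : IsQcFlasque E.X₁)
    (h2 : IsQcFlasque E.X₂) : IsQcFlasque E.X₃ := fun U V h hU hV z => by
  obtain ⟨y, rfl⟩ := sections_surjective hE h1 V hV z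
  obtain ⟨y', rfl⟩ := h2 h hU hV y
  exact ⟨E.g.hom.app (op U) y', res_app E.g h y'⟩

theorem subsingleton_HU_of_isQcFlasque {F : CohTop.Ab X} (hF : IsQcFlasque F) (U : Opens X)
    (hU : IsCompact (U : Set X)) (n : ℕ) : Subsingleton (CohTop.HU F (n + 1) U) :=
  SiteBase.subsingleton_HU_of_class (J := Opens.grothendieckTopology X) IsQcFlasque
    (fun U => IsCompact (U : Set X))
    (fun _ hE h1 hI => isQcFlasque_X₃ hE h1 (haveI := hI; isQcFlasque_of_injective _))
    (fun _ hE h1 _ => sections_surjective hE h1) hF hU n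

/-- Compact opens admit finite refinements. -/
theorem hasFiniteRefinements_compact :
    EtFound.FilteredSectionsGen.HasFiniteRefinements (Opens.grothendieckTopology X)
      (fun U : Opens X => IsCompact (U : Set X)) := by
  intro U hU S hS
  have hl : ∀ x : U, ∃ (W : Opens X) (g : W ⟶ U), (x : X) ∈ W ∧ IsCompact (W : Set X) ∧ S g := by
    intro x
    obtain ⟨V, f, hf, hxV⟩ := hS x.1 x.2
    obtain ⟨W, hxW, hWc, hWV⟩ := exists_compact_le hxV
    exact ⟨W, homOfLE hWV ≫ f, hxW, hWc, S.downward_closed hf _⟩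
  choose W g hxW hWc hg using hl
  obtain ⟨s, hs⟩ := hU.elim_finite_subcover (fun x : U => (W x : Set X)) (fun x => (W x).isOpen)
    (fun x hx => Set.mem_iUnion.2 ⟨⟨x, hx⟩, hxW ⟨x, hx⟩⟩)
  let e := s.equivFin.symm
  refine ⟨s.card, fun k => W (e k), fun k => g (e k), fun k => hg _, ?_, fun k => hWc _, fun k l => ?_⟩
  · intro y hy
    obtain ⟨x, hx, hyx⟩ := Set.mem_iUnion₂.1 (hs hy)
    refine ⟨W x, g x, ⟨W x, 𝟙 _, g x, ?_, Category.id_comp _⟩, hyx⟩
    obtain ⟨k, hk⟩ := e.surjective ⟨x, hx⟩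
    have hx' : (e k : U) = x := congrArg Subtype.val hk
    rw [← hx']
    exact ⟨k⟩
  · have e' : pullback (g (e k)) (g (e l)) = W (e k) ⊓ W (e l) :=
      le_antisymm (le_inf (leOfHom (pullback.fst _ _)) (leOfHom (pullback.snd _ _)))
        (leOfHom (pullback.lift (homOfLE inf_le_left) (homOfLE inf_le_right) (Subsingleton.elim _ _)))
    show IsCompact ((pullback (g (e k)) (g (e l)) : Opens X) : Set X)
    rw [e']
    exact isCompact_inf (hWc _) (hWc _)

variable {Λ : Type u} [SmallCategory Λ] [IsFiltered Λ]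

theorem preservesColimitsOfShape_sections {U : Opens X} (hU : IsCompact (U : Set X)) :
    PreservesColimitsOfShape Λ (sheafToPresheaf (Opens.grothendieckTopology X) AddCommGrpCat.{u} ⋙
      (evaluation (Opens X)ᵒᵖ AddCommGrpCat.{u}).obj (op U)) :=
  EtFound.FilteredSectionsGen.preservesColimitsOfShape_sections_ab (I := Λ) (hasFiniteRefinements_compact (X := X)) hU

theorem isQcFlasque_colimit (D : Λ ⥤ CohTop.Ab X) (h : ∀ j, IsQcFlasque (D.obj j)) :
    IsQcFlasque (colimit D) := fun U V hle hU hV z => by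
  haveI := preservesColimitsOfShape_sections (Λ := Λ) hV
  obtain ⟨j, t, ht⟩ := Concrete.isColimit_exists_rep _ (isColimitOfPreserves
    (sheafToPresheaf (Opens.grothendieckTopology X) AddCommGrpCat.{u} ⋙
      (evaluation (Opens X)ᵒᵖ AddCommGrpCat.{u}).obj (op V)) (colimit.isColimit D)) z
  obtain ⟨t', rfl⟩ := h j hle hU hV t
  exact ⟨(colimit.ι D j).hom.app (op U) t', (res_app _ hle t').trans ht⟩

/-- Cohomology over a compact open commutes with filtered colimits. -/
theorem preservesColimitsOfShape_HU (U : Opens X) (hU : IsCompact (U : Set X)) (q : ℕ) :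
    PreservesColimitsOfShape Λ
      ((Sheaf.cohomologyPresheafFunctor (Opens.grothendieckTopology X) q).flip.obj (op U) :
        CohTop.Ab X ⥤ AddCommGrpCat.{u}) where
  preservesColimit {D} := by
    let P := CohCx.freeSheaf (Opens.grothendieckTopology X) U
    suffices h : PreservesColimit D ((extFunctor.{u} q).obj (op P)) from
      preservesColimit_of_natIso D (show (extFunctor.{u} q).obj (op P) ≅
        (Sheaf.cohomologyPresheafFunctor (Opens.grothendieckTopology X) q).flip.obj (op U) from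
        NatIso.ofComponents (fun F => Iso.refl _) fun f => rfl)
    refine (EtLC12.ExtColimGen.comm_all (P := P) (fun D => ?_) (fun D hD n => ?_) q D).preservesColimit
    · haveI := preservesColimitsOfShape_sections (Λ := Λ) hU
      let hc := isColimitOfPreserves (sheafToPresheaf (Opens.grothendieckTopology X) AddCommGrpCat.{u} ⋙
        (evaluation (Opens X)ᵒᵖ AddCommGrpCat.{u}).obj (op U)) (colimit.isColimit D)
      constructor
      · intro x
        obtain ⟨φ, rfl⟩ := (Ext.mk₀_bijective _ _).2 x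
        obtain ⟨i, t, ht⟩ := Concrete.isColimit_exists_rep _ hc (SiteBase.secEquiv _ U _ φ)
        refine ⟨i, Ext.mk₀ ((SiteBase.secEquiv _ U _).symm t), ?_⟩
        rw [Ext.mk₀_comp_mk₀, SiteBase.secEquiv_symm_comp,
          show ((colimit.ι D i).hom.app (op U)).hom t = SiteBase.secEquiv _ U _ φ from ht,
          AddEquiv.symm_apply_apply]
      · intro i y hy
        obtain ⟨φ, rfl⟩ := (Ext.mk₀_bijective _ _).2 y
        rw [Ext.mk₀_comp_mk₀, Ext.mk₀_eq_zero_iff] at hy
        have h0 : ((colimit.ι D i).hom.app (op U)).hom (SiteBase.secEquiv _ U _ φ) =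
            ((colimit.ι D i).hom.app (op U)).hom 0 := by
          rw [map_zero, ← SiteBase.secEquiv_comp, hy, map_zero]
        obtain ⟨j, u', v, huv⟩ := Concrete.isColimit_exists_of_rep_eq _ hc _ _ h0
        refine ⟨j, u', ?_⟩
        rw [Ext.mk₀_comp_mk₀, Ext.mk₀_eq_zero_iff]
        apply (SiteBase.secEquiv _ U _).injective
        rw [map_zero, SiteBase.secEquiv_comp]
        exact huv.trans (map_zero ((D.map v).hom.app (op U)).hom)
    · exact subsingleton_HU_of_isQcFlasque
        (isQcFlasque_colimit D fun j => haveI := hD j; isQcFlasque_of_injective _) U hU n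

end Groth.Agent.TopVanish

end
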