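import Mathlib.CategoryTheory.Abelian.RightDerived
import Mathlib.Algebra.Homology.HomologySequenceLemmas
import Mathlib.Algebra.Homology.HomologicalComplexAbelian
import Mathlib.Algebra.Homology.ExactSequence
import Mathlib.Algebra.Homology.Additive
import Mathlib.CategoryTheory.Preadditive.AdditiveFunctor

/-!
# A Mayer–Vietoris sequence of derived functors
-/

set_option autoImplicit false

universe v u v' u'

open CategoryTheory CategoryTheory.Limits

noncomputable section

namespace Groth.Agent.TopVanish

variable {C : Type u} [Category.{v} C] [Abelian C] [EnoughInjectives C] {D : Type u'} [Category.{v'} D] [Abelian D]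
  {G A B K : C ⥤ D} [G.Additive] [A.Additive] [B.Additive] [K.Additive]
  (α : G ⟶ A) (β : G ⟶ B) (γ : A ⟶ K) (ε : B ⟶ K)

/-- The long exact sequence of derived functors of a sequence exact on injectives. -/
theorem exists_derived_MV (hw : ∀ X, α.app X ≫ γ.app X = β.app X ≫ ε.app X)
    (hex : ∀ I : C, Injective I → (ShortComplex.mk (biprod.lift (α.app I) (β.app I)) (biprod.desc (γ.app I) (-(ε.app I)))
      (by rw [biprod.lift_desc, Preadditive.comp_neg, hw I, add_neg_cancel])).ShortExact) (X : C) :
    ∃ δ : ∀ n : ℕ, (K.rightDerived n).obj X ⟶ (G.rightDerived (n + 1)).obj X,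
      Mono (biprod.lift ((NatTrans.rightDerived α 0).app X) ((NatTrans.rightDerived β 0).app X)) ∧
      ∀ n : ℕ,
        (ComposableArrows.mk₂
          (biprod.lift ((NatTrans.rightDerived α n).app X) ((NatTrans.rightDerived β n).app X))
          (biprod.desc ((NatTrans.rightDerived γ n).app X) (-((NatTrans.rightDerived ε n).app X)))).Exact ∧
        (ComposableArrows.mk₂
          (biprod.desc ((NatTrans.rightDerived γ n).app X) (-((NatTrans.rightDerived ε n).app X))) (δ n)).Exact ∧
        (ComposableArrows.mk₂ (δ n)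
          (biprod.lift ((NatTrans.rightDerived α (n + 1)).app X) ((NatTrans.rightDerived β (n + 1)).app X))).Exact := by
  obtain ⟨P⟩ : Nonempty (InjectiveResolution X) := ⟨injectiveResolution X⟩
  let c := ComplexShape.up ℕ
  haveI : ∀ i, PreservesBinaryBiproducts (HomologicalComplex.eval D c i) := fun i =>
    preservesBinaryBiproducts_of_preservesBiproducts _
  haveI : ∀ n, PreservesBinaryBiproducts (HomologicalComplex.homologyFunctor D c n) := fun n =>
    preservesBinaryBiproducts_of_preservesBiproducts _
  let fα := (NatTrans.mapHomologicalComplex α c).app P.cocomplex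
  let fβ := (NatTrans.mapHomologicalComplex β c).app P.cocomplex
  let fγ := (NatTrans.mapHomologicalComplex γ c).app P.cocomplex
  let fε := (NatTrans.mapHomologicalComplex ε c).app P.cocomplex
  have hw' : fα ≫ fγ = fβ ≫ fε := HomologicalComplex.hom_ext _ _ fun i => hw (P.cocomplex.X i)
  let S : ShortComplex (CochainComplex D ℕ) :=
    ShortComplex.mk (biprod.lift fα fβ) (biprod.desc fγ (-fε))
      (by rw [biprod.lift_desc, Preadditive.comp_neg, hw', add_neg_cancel])
  have hS : S.ShortExact := by
    refine HomologicalComplex.shortExact_of_degreewise_shortExact S fun i => ?_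
    haveI : Injective (P.cocomplex.X i) := P.injective i
    let E := HomologicalComplex.eval D c i
    have hz : biprod.lift ((HomologicalComplex.eval D c i).map fα) ((HomologicalComplex.eval D c i).map fβ) ≫
        biprod.desc ((HomologicalComplex.eval D c i).map fγ) (-((HomologicalComplex.eval D c i).map fε)) = 0 := by
      rw [biprod.lift_desc, Preadditive.comp_neg, ← Functor.map_comp, ← Functor.map_comp, hw', add_neg_cancel]
    have h' : (ShortComplex.mk _ _ hz).ShortExact := hex (P.cocomplex.X i) inferInstance
    refine ShortComplex.shortExact_of_iso (ShortComplex.isoMk (S₁ := ShortComplex.mk _ _ hz) (Iso.refl _)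
      ((HomologicalComplex.eval D c i).mapBiprod ((A.mapHomologicalComplex c).obj P.cocomplex)
        ((B.mapHomologicalComplex c).obj P.cocomplex)).symm (Iso.refl _) ?_ ?_) h'
    · show 𝟙 _ ≫ (HomologicalComplex.eval D c i).map (biprod.lift fα fβ) =
        biprod.lift ((HomologicalComplex.eval D c i).map fα) ((HomologicalComplex.eval D c i).map fβ) ≫ _
      rw [Category.id_comp, Iso.symm_hom, Iso.eq_comp_inv, Functor.mapBiprod_hom]
      refine biprod.hom_ext _ _ ?_ ?_
      · rw [Category.assoc, biprod.lift_fst, biprod.lift_fst, ← Functor.map_comp, biprod.lift_fst]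
      · rw [Category.assoc, biprod.lift_snd, biprod.lift_snd, ← Functor.map_comp, biprod.lift_snd]
    · show _ ≫ (HomologicalComplex.eval D c i).map (biprod.desc fγ (-fε)) =
        biprod.desc ((HomologicalComplex.eval D c i).map fγ) (-((HomologicalComplex.eval D c i).map fε)) ≫ 𝟙 _
      rw [Category.comp_id, Iso.symm_hom, Functor.mapBiprod_inv]
      refine biprod.hom_ext' _ _ ?_ ?_
      · rw [biprod.inl_desc_assoc, biprod.inl_desc, ← Functor.map_comp, biprod.inl_desc]
      · rw [biprod.inr_desc_assoc, biprod.inr_desc, ← Functor.map_comp, biprod.inr_desc, Functor.map_neg]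
  let e : ∀ n, (HomologicalComplex.homologyFunctor D c n).obj S.X₂ ≅ (A.rightDerived n).obj X ⊞ (B.rightDerived n).obj X := fun n =>
    (HomologicalComplex.homologyFunctor D c n).mapBiprod _ _ ≪≫ biprod.mapIso (P.isoRightDerivedObj A n).symm (P.isoRightDerivedObj B n).symm
  have hf : ∀ n, (P.isoRightDerivedObj G n).hom ≫ (HomologicalComplex.homologyFunctor D c n).map S.f ≫ (e n).hom =
      biprod.lift ((NatTrans.rightDerived α n).app X) ((NatTrans.rightDerived β n).app X) := by
    intro n
    refine biprod.hom_ext _ _ ?_ ?_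
    · rw [biprod.lift_fst, InjectiveResolution.rightDerived_app_eq α P n]
      simp only [e, Iso.trans_hom, biprod.mapIso_hom, Iso.symm_hom, Category.assoc, biprod.map_fst,
        Functor.mapBiprod_hom, biprod.lift_fst_assoc]
      rw [← Functor.map_comp_assoc, biprod.lift_fst]
    · rw [biprod.lift_snd, InjectiveResolution.rightDerived_app_eq β P n]
      simp only [e, Iso.trans_hom, biprod.mapIso_hom, Iso.symm_hom, Category.assoc, biprod.map_snd,
        Functor.mapBiprod_hom, biprod.lift_snd_assoc]
      rw [← Functor.map_comp_assoc, biprod.lift_snd]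
  have hg : ∀ n, (e n).inv ≫ (HomologicalComplex.homologyFunctor D c n).map S.g ≫ (P.isoRightDerivedObj K n).inv =
      biprod.desc ((NatTrans.rightDerived γ n).app X) (-((NatTrans.rightDerived ε n).app X)) := by
    intro n
    refine biprod.hom_ext' _ _ ?_ ?_
    · rw [biprod.inl_desc, InjectiveResolution.rightDerived_app_eq γ P n]
      simp only [e, Iso.trans_inv, biprod.mapIso_inv, Iso.symm_inv, Category.assoc, biprod.inl_map_assoc,
        Functor.mapBiprod_inv, biprod.inl_desc_assoc]
      rw [← Functor.map_comp_assoc, biprod.inl_desc]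
    · rw [biprod.inr_desc, InjectiveResolution.rightDerived_app_eq ε P n]
      simp only [e, Iso.trans_inv, biprod.mapIso_inv, Iso.symm_inv, Category.assoc, biprod.inr_map_assoc,
        Functor.mapBiprod_inv, biprod.inr_desc_assoc]
      rw [← Functor.map_comp_assoc, biprod.inr_desc, Functor.map_neg, Preadditive.neg_comp, Preadditive.comp_neg]
  have hr : ∀ n : ℕ, c.Rel n (n + 1) := fun n => ComplexShape.up_mk n (n + 1) rfl
  let dd : ∀ n, (HomologicalComplex.homologyFunctor D c n).obj S.X₃ ⟶
      (HomologicalComplex.homologyFunctor D c (n + 1)).obj S.X₁ := fun n => hS.δ n (n + 1) (hr n)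
  have hgd : ∀ n, (HomologicalComplex.homologyFunctor D c n).map S.g ≫ dd n = 0 := fun n => hS.comp_δ n (n + 1) (hr n)
  have hdf : ∀ n, dd n ≫ (HomologicalComplex.homologyFunctor D c (n + 1)).map S.f = 0 := fun n => hS.δ_comp n (n + 1) (hr n)
  have hfg : ∀ n, (HomologicalComplex.homologyFunctor D c n).map S.f ≫
      (HomologicalComplex.homologyFunctor D c n).map S.g = 0 := fun n => by
    rw [← Functor.map_comp, S.zero, Functor.map_zero]
  let δ : ∀ n, (K.rightDerived n).obj X ⟶ (G.rightDerived (n + 1)).obj X := fun n =>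
    (P.isoRightDerivedObj K n).hom ≫ dd n ≫ (P.isoRightDerivedObj G (n + 1)).inv
  have w0 : ∀ n, biprod.lift ((NatTrans.rightDerived α n).app X) ((NatTrans.rightDerived β n).app X) ≫
      biprod.desc ((NatTrans.rightDerived γ n).app X) (-((NatTrans.rightDerived ε n).app X)) = 0 := fun n => by
    rw [← hf n, ← hg n]
    simp only [Category.assoc, Iso.hom_inv_id_assoc]
    rw [reassoc_of% (hfg n), zero_comp, comp_zero]
  have w1 : ∀ n, biprod.desc ((NatTrans.rightDerived γ n).app X) (-((NatTrans.rightDerived ε n).app X)) ≫ δ n = 0 := fun n => by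
    rw [← hg n]
    simp only [δ, Category.assoc, Iso.inv_hom_id_assoc]
    rw [reassoc_of% (hgd n), zero_comp, comp_zero]
  have w2 : ∀ n, δ n ≫ biprod.lift ((NatTrans.rightDerived α (n + 1)).app X) ((NatTrans.rightDerived β (n + 1)).app X) = 0 :=
    fun n => by
    rw [← hf (n + 1)]
    simp only [δ, Category.assoc, Iso.inv_hom_id_assoc]
    rw [reassoc_of% (hdf n), zero_comp, comp_zero]
  refine ⟨δ, ?_, fun n => ⟨?_, ?_, ?_⟩⟩
  · haveI : Mono S.f := hS.mono_f
    haveI : Mono ((HomologicalComplex.homologyFunctor D c 0).map S.f) :=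
      HomologicalComplex.mono_homologyMap_of_mono_of_not_rel S.f 0 (fun j => by simp [c])
    rw [← hf 0]
    exact mono_comp _ _
  · refine ComposableArrows.exact₂_mk _ (w0 n) (ShortComplex.exact_of_iso ?_ (hS.homology_exact₂ n))
    · refine ShortComplex.isoMk (P.isoRightDerivedObj G n).symm (e n) (P.isoRightDerivedObj K n).symm ?_ ?_
      · show (P.isoRightDerivedObj G n).inv ≫ biprod.lift _ _ = (HomologicalComplex.homologyFunctor D c n).map S.f ≫ (e n).hom
        rw [← hf n, Iso.inv_hom_id_assoc]
      · show (e n).hom ≫ biprod.desc _ _ = (HomologicalComplex.homologyFunctor D c n).map S.g ≫ (P.isoRightDerivedObj K n).inv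
        rw [← hg n, Iso.hom_inv_id_assoc]
  · refine ComposableArrows.exact₂_mk _ (w1 n) (ShortComplex.exact_of_iso ?_ (hS.homology_exact₃ n (n + 1) (hr n)))
    · refine ShortComplex.isoMk (e n) (P.isoRightDerivedObj K n).symm (P.isoRightDerivedObj G (n + 1)).symm ?_ ?_
      · show (e n).hom ≫ biprod.desc _ _ = (HomologicalComplex.homologyFunctor D c n).map S.g ≫ (P.isoRightDerivedObj K n).inv
        rw [← hg n, Iso.hom_inv_id_assoc]
      · show (P.isoRightDerivedObj K n).inv ≫ δ n = dd n ≫ (P.isoRightDerivedObj G (n + 1)).inv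
        simp only [δ, Iso.inv_hom_id_assoc]
  · refine ComposableArrows.exact₂_mk _ (w2 n) (ShortComplex.exact_of_iso ?_ (hS.homology_exact₁ n (n + 1) (hr n)))
    · refine ShortComplex.isoMk (P.isoRightDerivedObj K n).symm (P.isoRightDerivedObj G (n + 1)).symm (e (n + 1)) ?_ ?_
      · show (P.isoRightDerivedObj K n).inv ≫ δ n = dd n ≫ (P.isoRightDerivedObj G (n + 1)).inv
        simp only [δ, Iso.inv_hom_id_assoc]
      · show (P.isoRightDerivedObj G (n + 1)).inv ≫ biprod.lift _ _ = (HomologicalComplex.homologyFunctor D c (n + 1)).map S.f ≫ (e (n + 1)).hom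
        rw [← hf (n + 1), Iso.inv_hom_id_assoc]

end Groth.Agent.TopVanish

end
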