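import Groth.Agent.TopVanish.Van
import Groth.Agent.TopVanish.DerivedMV
import Groth.Prelude.Def_CohCx

/-!
# Relative Mayer–Vietoris
-/

set_option autoImplicit false

universe u

open CategoryTheory CategoryTheory.Limits Opposite TopologicalSpace Topology

noncomputable section

namespace Groth.Agent.TopVanish

variable {X Y : TopCat.{u}} (f : X ⟶ Y) (U V : Opens X) (W : Opens Y)

/-- The open `U ∩ f⁻¹ W` as used by restriction functors. -/
abbrev restrPre : Opens X := U.isOpenEmbedding.functor.obj ((Opens.map (CohCx.incl U ≫ f)).obj W)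

lemma mem_restrPre {x : X} : x ∈ restrPre f U W ↔ x ∈ U ∧ f x ∈ W := by
  constructor
  · rintro ⟨y, hy, rfl⟩
    exact ⟨y.2, hy⟩
  · rintro ⟨hx, hy⟩
    exact ⟨⟨x, hx⟩, hy, rfl⟩

lemma restrPre_le : restrPre f U W ≤ (Opens.map f).obj W := fun _ hx => ((mem_restrPre f U W).1 hx).2

lemma restrPre_mono {U V : Opens X} (h : V ≤ U) : restrPre f V W ≤ restrPre f U W := fun _ hx =>
  (mem_restrPre f U W).2 ⟨h ((mem_restrPre f V W).1 hx).1, ((mem_restrPre f V W).1 hx).2⟩

set_option maxHeartbeats 3200000 in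
theorem shortExact_injective (hUV : U ⊔ V = ⊤) (I : CohTop.Ab X) [Injective I] :
    (ShortComplex.mk
      (biprod.lift ((CohCx.pushToRestrPush f U).app I) ((CohCx.pushToRestrPush f V).app I))
      (biprod.desc ((CohCx.restrPushToRestrPush f (inf_le_left : U ⊓ V ≤ U)).app I)
        (-((CohCx.restrPushToRestrPush f (inf_le_right : U ⊓ V ≤ V)).app I)))
      (by
        rw [biprod.lift_desc, Preadditive.comp_neg, add_neg_eq_zero]
        refine Sheaf.hom_ext (NatTrans.ext (funext fun W => ?_))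
        show I.obj.map _ ≫ I.obj.map _ = I.obj.map _ ≫ I.obj.map _
        rw [← I.obj.map_comp, ← I.obj.map_comp]
        rfl)).ShortExact := by
  haveI hfl := SiteBase.isFlasque_of_injective I
  let G := CohTop.restrFunctor U ⋙ CohTop.push (CohCx.incl U ≫ f)
  let G' := CohTop.restrFunctor V ⋙ CohTop.push (CohCx.incl V ≫ f)
  refine shortExact_of_local _ (fun W (a : I.obj.obj (op ((Opens.map f).obj W))) ha => ?_) (fun W b hb x hx => ?_)
    (fun W (c : I.obj.obj (op (restrPre f (U ⊓ V) W))) x hx => ?_)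
  · have h1 : I.obj.map (homOfLE (restrPre_le f U W)).op a = 0 :=
      (congrArg (fun t : (CohTop.push f).obj I ⟶ G.obj I => t.hom.app (op W) a) (biprod.lift_fst _ _).symm).trans
        ((congrArg ((biprod.fst : G.obj I ⊞ G'.obj I ⟶ G.obj I).hom.app (op W)) ha).trans (map_zero _))
    have h2 : I.obj.map (homOfLE (restrPre_le f V W)).op a = 0 :=
      (congrArg (fun t : (CohTop.push f).obj I ⟶ G'.obj I => t.hom.app (op W) a) (biprod.lift_snd _ _).symm).trans
        ((congrArg ((biprod.snd : G.obj I ⊞ G'.obj I ⟶ G'.obj I).hom.app (op W)) ha).trans (map_zero _))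
    refine TopCat.Sheaf.eq_of_locally_eq₂ (⟨I.obj, I.2⟩ : TopCat.Sheaf AddCommGrpCat.{u} X)
      (homOfLE (restrPre_le f U W)) (homOfLE (restrPre_le f V W)) (fun z hz => ?_) a 0
      (h1.trans (map_zero _).symm) (h2.trans (map_zero _).symm)
    rcases (hUV.ge (show z ∈ (⊤ : Opens X) from trivial) : z ∈ U ⊔ V) with h | h
    · exact Or.inl ((mem_restrPre f U W).2 ⟨h, hz⟩)
    · exact Or.inr ((mem_restrPre f V W).2 ⟨h, hz⟩)
  · let b₁ : I.obj.obj (op (restrPre f U W)) := (biprod.fst : G.obj I ⊞ G'.obj I ⟶ G.obj I).hom.app (op W) b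
    let b₂ : I.obj.obj (op (restrPre f V W)) := (biprod.snd : G.obj I ⊞ G'.obj I ⟶ G'.obj I).hom.app (op W) b
    have hagree : I.obj.map (homOfLE (restrPre_mono f W (inf_le_left : U ⊓ V ≤ U))).op b₁ =
        I.obj.map (homOfLE (restrPre_mono f W (inf_le_right : U ⊓ V ≤ V))).op b₂ := by
      have h := (desc_app _ _ W b).symm.trans hb
      exact sub_eq_zero.1 ((sub_eq_add_neg _ _).trans h)
    obtain ⟨a, ha₁, ha₂⟩ := glue_two I (C := (Opens.map f).obj W)
      (A := restrPre f U W) (B := restrPre f V W)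
      (le_antisymm (fun z hz => by
        rcases (hUV.ge (show z ∈ (⊤ : Opens X) from trivial) : z ∈ U ⊔ V) with h | h
        · exact Or.inl ((mem_restrPre f U W).2 ⟨h, hz⟩)
        · exact Or.inr ((mem_restrPre f V W).2 ⟨h, hz⟩)) (sup_le (restrPre_le f U W) (restrPre_le f V W)))
      (restrPre_le f U W) (restrPre_le f V W) b₁ b₂ (by
        have hle : restrPre f U W ⊓ restrPre f V W ≤ restrPre f (U ⊓ V) W := fun z hz =>
          (mem_restrPre f _ W).2 ⟨⟨((mem_restrPre f U W).1 hz.1).1, ((mem_restrPre f V W).1 hz.2).1⟩,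
            ((mem_restrPre f U W).1 hz.1).2⟩
        have h := congrArg (I.obj.map (homOfLE hle).op) hagree
        rw [res_res, res_res] at h
        exact h)
    refine ⟨W, le_rfl, hx, a, ?_⟩
    refine Eq.trans ?_ (ConcreteCategory.congr_hom ((G.obj I ⊞ G'.obj I).obj.map_id (op W)) b).symm
    refine (biprod_app_total (G.obj I) (G'.obj I) W _).symm.trans ?_
    refine Eq.trans ?_ (biprod_app_total (G.obj I) (G'.obj I) W b)
    congr 1
    · refine congrArg ((biprod.inl : G.obj I ⟶ G.obj I ⊞ G'.obj I).hom.app (op W)) ?_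
      exact (congrArg (fun t : (CohTop.push f).obj I ⟶ G.obj I => t.hom.app (op W) a) (biprod.lift_fst _ _)).trans ha₁
    · refine congrArg ((biprod.inr : G'.obj I ⟶ G.obj I ⊞ G'.obj I).hom.app (op W)) ?_
      exact (congrArg (fun t : (CohTop.push f).obj I ⟶ G'.obj I => t.hom.app (op W) a) (biprod.lift_snd _ _)).trans ha₂
  · obtain ⟨a, ha⟩ := (AddCommGrpCat.epi_iff_surjective _).1 (@TopCat.Presheaf.IsFlasque.epi _ _ _ _ hfl _ _
      (homOfLE (restrPre_mono f W (inf_le_left : U ⊓ V ≤ U))).op) c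
    refine ⟨W, le_rfl, hx, (biprod.inl : G.obj I ⟶ G.obj I ⊞ G'.obj I).hom.app (op W) a, ?_⟩
    refine (congrArg (fun t : G.obj I ⟶ (CohTop.restrFunctor (U ⊓ V) ⋙ CohTop.push (CohCx.incl (U ⊓ V) ≫ f)).obj I =>
      t.hom.app (op W) a) (biprod.inl_desc _ _)).trans ?_
    refine ha.trans ?_
    exact (ConcreteCategory.congr_hom
      (((CohTop.restrFunctor (U ⊓ V) ⋙ CohTop.push (CohCx.incl (U ⊓ V) ≫ f)).obj I).obj.map_id (op W)) c).symm

end Groth.Agent.TopVanish

end
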