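import Groth.Agent.TopVanish.SpecNbhd

/-!
# Cohomology of intersections of compact opens as colimits; stalks of direct images along spectral maps
-/

set_option autoImplicit false

universe u

open CategoryTheory CategoryTheory.Limits Opposite TopologicalSpace Topology Filter

noncomputable section

namespace Groth.Agent.TopVanish

open TopDescent (gFunctor gGroup gm gm_res subOver gBifunctor exists_res_eq_zero stk)

variable {X : TopCat.{u}} [PrespectralSpace X] [QuasiSeparatedSpace X] [CompactSpace X] [QuasiSober X]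

section Colim

variable (E : Set X)

/-- The compact open neighbourhoods. -/
abbrev QCProp : ObjectProperty (Opens X)ᵒᵖ := fun U => E ⊆ (U.unop : Set X) ∧ IsCompact (U.unop : Set X)

instance : IsFilteredOrEmpty (QCProp E).FullSubcategory where
  cocone_objs a b := ⟨⟨op (a.obj.unop ⊓ b.obj.unop), fun z hz => ⟨a.property.1 hz, b.property.1 hz⟩,
      isCompact_inf a.property.2 b.property.2⟩,
    ObjectProperty.homMk (homOfLE inf_le_left).op, ObjectProperty.homMk (homOfLE inf_le_right).op, trivial⟩
  cocone_maps a b i j := ⟨b, 𝟙 b, by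
    congr 1
    exact ObjectProperty.hom_ext _ (Quiver.Hom.unop_inj (Subsingleton.elim _ _))⟩

instance : IsFiltered (QCProp E).FullSubcategory where
  nonempty := ⟨⟨op ⊤, fun _ _ => trivial, isCompact_univ⟩⟩

/-- Sections on compact open neighbourhoods. -/
abbrev qcSec : CohTop.Ab X ⥤ ((QCProp E).FullSubcategory ⥤ AddCommGrpCat.{u}) :=
  sheafToPresheaf (Opens.grothendieckTopology X) AddCommGrpCat.{u} ⋙
    (Functor.whiskeringLeft _ _ AddCommGrpCat.{u}).obj (QCProp E).ι

variable {E} {T : Set X} (hgen : ∀ U : Opens X, E ⊆ (U : Set X) → T ⊆ (U : Set X))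

/-- Germs along the set. -/
def qcCocone (G : CohTop.Ab X) : Cocone ((qcSec E).obj G) where
  pt := (gFunctor G).obj (op (subOver T))
  ι :=
    { app := fun U => AddCommGrpCat.ofHom (X := G.obj.obj U.obj)
        (Y := (gGroup G (subOver T) : Type u))
        { toFun := fun s => ⟨fun w x => gm G x.1
            (show x.1 ∈ U.obj.unop from x.2 ▸ hgen _ U.property.1 w.2) s,
            fun w => ⟨U.obj.unop, hgen _ U.property.1 w.2, s, Eventually.of_forall fun _ _ _ _ => rfl⟩⟩
          map_zero' := Subtype.ext (funext fun w => funext fun x => map_zero _)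
          map_add' := fun _ _ => Subtype.ext (funext fun w => funext fun x => map_add _ _ _) }
      naturality := fun U U' i => by
        ext s
        refine Subtype.ext (funext fun w => funext fun x => ?_)
        exact TopCat.Presheaf.germ_res_apply (F := G.obj) i.hom.unop x.1 _ s }

/-- Germs along the set. -/
def toQC : qcSec E ⋙ colim ⟶ gBifunctor X ⋙ (evaluation (Over X)ᵒᵖ AddCommGrpCat.{u}).obj (op (subOver T)) where
  app G := colimit.desc _ (qcCocone hgen G)
  naturality G G' φ := by
    refine colimit.hom_ext fun U => ?_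
    refine (colimit.ι_map_assoc _ U _).trans ?_
    refine ((congrArg (_ ≫ ·) (colimit.ι_desc (qcCocone hgen G') U)).trans ?_)
    refine Eq.trans ?_ (colimit.ι_desc_assoc (qcCocone hgen G) U _).symm
    ext s
    refine Subtype.ext (funext fun w => funext fun x => ?_)
    exact (TopCat.Presheaf.stalkFunctor_map_germ_apply U.obj.unop x.1 _ φ.hom s).symm

omit [CompactSpace X] [QuasiSober X] in
theorem toQC_ι (G : CohTop.Ab X) (U : (QCProp E).FullSubcategory) (s : G.obj.obj U.obj) (w : (subOver T).left)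
    (x : X) (e : (subOver T).hom w = x) :
    (((toQC hgen).app G (colimit.ι ((qcSec E).obj G) U s)) : gGroup G (subOver T)).1 w ⟨x, e⟩ =
      gm G x (show x ∈ U.obj.unop from e ▸ hgen _ U.property.1 w.2) s := by
  have h : colimit.ι ((qcSec E).obj G) U ≫ (toQC hgen).app G = (qcCocone hgen G).ι.app U :=
    colimit.ι_desc (qcCocone hgen G) U
  exact congrFun (congrFun (congrArg Subtype.val (ConcreteCategory.congr_hom h s)) w) ⟨x, e⟩

variable (hT : IsQCInter T) (hE : IsCompact E) (hET : E ⊆ T)
include hgen hT hE hET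

theorem isIso_toQC (G : CohTop.Ab X) : IsIso ((toQC hgen).app G) := by
  rw [ConcreteCategory.isIso_iff_bijective]
  refine ⟨(injective_iff_map_eq_zero ((toQC hgen).app G).hom).2 fun g hg => ?_, fun σ => ?_⟩
  · obtain ⟨U, s, rfl⟩ := Concrete.colimit_exists_rep _ g
    obtain ⟨V, hVU, hTV, hV⟩ := exists_res_eq_zero (F := G) (U := U.obj.unop) s T fun x hx =>
      ⟨hgen _ U.property.1 hx, (toQC_ι hgen G U s ⟨x, hx⟩ x rfl).symm.trans
        (congrFun (congrFun (congrArg Subtype.val hg) ⟨x, hx⟩) ⟨x, rfl⟩)⟩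
    obtain ⟨K, hK, hEK, hKV⟩ := exists_qc_between hE (O := V) (hET.trans hTV)
    let i : U ⟶ (⟨op K, hEK, hK⟩ : (QCProp E).FullSubcategory) := ObjectProperty.homMk (homOfLE (hKV.trans hVU)).op
    refine (ConcreteCategory.congr_hom (colimit.w ((qcSec E).obj G) i) s).symm.trans ?_
    refine (congrArg (colimit.ι ((qcSec E).obj G) _) ?_).trans (map_zero _)
    exact (res_res G hVU hKV s).symm.trans ((congrArg (G.obj.map (homOfLE hKV).op) hV).trans (map_zero _))
  · obtain ⟨V, s, hV, hs⟩ := hT.exists_section σ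
    obtain ⟨K, hK, hEK, hKV⟩ := exists_qc_between hE (O := V) (hET.trans hV)
    refine ⟨colimit.ι ((qcSec E).obj G) ⟨op K, hEK, hK⟩ (G.obj.map (homOfLE hKV).op s),
      Subtype.ext (funext fun w => funext fun ⟨x, e⟩ => ?_)⟩
    exact (toQC_ι hgen G ⟨op K, hEK, hK⟩ _ w x e).trans ((gm_res G hKV x _ s).trans (hs w x e).symm)

/-- Cohomology of the set is the colimit over its compact open neighbourhoods. -/
theorem nonempty_colimit_iso_H (F : CohTop.Ab X) (p : ℕ) :
    Nonempty ((colimit ((QCProp E).ι ⋙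
        (Sheaf.cohomologyPresheafFunctor (Opens.grothendieckTopology X) p).obj F) : AddCommGrpCat.{u}) ≅
      AddCommGrpCat.of (CohTop.H ((CohTop.pull (subOver T).hom).obj F) p)) := by
  haveI : ∀ G, IsIso ((toQC hgen).app G) := isIso_toQC hgen hT hE hET
  haveI : IsIso (toQC hgen) := NatIso.isIso_of_isIso_app _
  haveI : PreservesColimitsOfSize.{0, 0} (colim : ((QCProp E).FullSubcategory ⥤ AddCommGrpCat.{u}) ⥤ _) :=
    colimConstAdj.leftAdjoint_preservesColimits
  haveI : PreservesFiniteColimits (colim : ((QCProp E).FullSubcategory ⥤ AddCommGrpCat.{u}) ⥤ _) :=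
    PreservesColimitsOfSize.preservesFiniteColimits.{0, 0} _
  haveI : PreservesFiniteLimits (colim : ((QCProp E).FullSubcategory ⥤ AddCommGrpCat.{u}) ⥤ _) :=
    HasExactColimitsOfShape.preservesFiniteLimits
  haveI : (colim : ((QCProp E).FullSubcategory ⥤ AddCommGrpCat.{u}) ⥤ _).Additive :=
    Functor.additive_of_preserves_binary_products _
  haveI : (qcSec E).Additive := inferInstance
  haveI : (qcSec E ⋙ colim).Additive := inferInstance
  obtain ⟨e⟩ := nonempty_gB_rightDerived_iso hT F p
  let P := (Functor.whiskeringLeft (QCProp E).FullSubcategory (Opens X)ᵒᵖ AddCommGrpCat.{u}).obj (QCProp E).ι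
  haveI : PreservesLimitsOfSize.{0, 0} P := inferInstance
  haveI : PreservesFiniteLimits P := PreservesLimitsOfSize.preservesFiniteLimits.{0, 0} _
  haveI : PreservesFiniteColimits P := inferInstance
  exact ⟨colim.mapIso (((SiteBase.rightDerivedCompIso (sheafToPresheaf (Opens.grothendieckTopology X) AddCommGrpCat.{u})
      P p).app F ≪≫ P.mapIso ((SiteBase.rightDerivedIsoCohomology (J := Opens.grothendieckTopology X) p).app F)).symm) ≪≫
    ((SiteBase.rightDerivedCompIso (qcSec E) colim p).app F).symm ≪≫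
    (SiteBase.rightDerivedCongr (asIso (toQC hgen)) p).app F ≪≫ e⟩

end Colim

section Gen

/-- Points specialising into a compact set form an intersection of compact opens. -/
theorem isQCInter_generalizations {E : Set X} (hE : IsCompact E) : IsQCInter {x : X | ∃ e ∈ E, e ∈ closure {x}} where
  compact := by
    refine isCompact_of_finite_subcover fun {ι} O hO hcov => ?_
    obtain ⟨s, hs⟩ := hE.elim_finite_subcover O hO fun e he => hcov ⟨e, he, subset_closure rfl⟩
    refine ⟨s, fun x ⟨e, he, hex⟩ => ?_⟩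
    obtain ⟨i, hi, hei⟩ := Set.mem_iUnion₂.1 (hs he)
    exact Set.mem_iUnion₂.2 ⟨i, hi, (specializes_iff_mem_closure.2 hex).mem_open (hO i) hei⟩
  sep x hx := by
    classical
    have h : ∀ e : E, ∃ W : Opens X, (e : X) ∈ W ∧ IsCompact (W : Set X) ∧ x ∉ W := fun e => by
      obtain ⟨U, hU, heU, hxU⟩ := not_specializes_iff_exists_open.1
        (fun hs : x ⤳ (e : X) => hx ⟨e, e.2, specializes_iff_mem_closure.1 hs⟩)
      obtain ⟨W, heW, hW, hWU⟩ := exists_compact_le (U := (⟨U, hU⟩ : Opens X)) heU
      exact ⟨W, heW, hW, fun h => hxU (hWU h)⟩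
    choose W heW hW hxW using h
    obtain ⟨s, hs⟩ := hE.elim_finite_subcover (fun e : E => (W e : Set X)) (fun e => (W e).isOpen)
      (fun e he => Set.mem_iUnion.2 ⟨⟨e, he⟩, heW ⟨e, he⟩⟩)
    refine ⟨s.sup W, isCompact_sup s W hW, fun z ⟨e, he, hez⟩ => ?_, fun hxs => ?_⟩
    · obtain ⟨i, hi, hei⟩ := Set.mem_iUnion₂.1 (hs he)
      exact Finset.le_sup (f := W) hi ((specializes_iff_mem_closure.2 hez).mem_open (W i).isOpen hei)
    · rw [SetLike.mem_coe.symm, Opens.coe_finset_sup, Finset.sup_set_eq_biUnion] at hxs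
      obtain ⟨i, -, hi⟩ := Set.mem_iUnion₂.1 hxs
      exact hxW i hi

end Gen

section Stalk

variable {Y : TopCat.{u}} [PrespectralSpace Y] [QuasiSeparatedSpace Y] (f : X ⟶ Y) (hf : IsSpectralMap f) (y : Y)

/-- The preimage of the generalisations of a point. -/
abbrev genFib : Set X := {x : X | y ∈ closure {f x}}

omit [PrespectralSpace X] [QuasiSeparatedSpace X] [CompactSpace X] [QuasiSober X] [PrespectralSpace Y]
  [QuasiSeparatedSpace Y] in
lemma mem_of_mem_genFib {x : X} (hx : x ∈ genFib f y) {U : Opens Y} (hy : y ∈ U) : f x ∈ U :=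
  (specializes_iff_mem_closure.2 hx).mem_open U.isOpen hy

/-- The cocone of germs. -/
def genCocone (G : CohTop.Ab X) :
    Cocone ((OpenNhds.inclusion y).op ⋙ ((CohTop.push f).obj G).obj) where
  pt := (gFunctor G).obj (op (subOver (genFib f y)))
  ι :=
    { app := fun U => AddCommGrpCat.ofHom (X := G.obj.obj (op ((Opens.map f).obj U.unop.1)))
        (Y := (gGroup G (subOver (genFib f y)) : Type u))
        { toFun := fun s => ⟨fun w x => gm G x.1
            (show f x.1 ∈ U.unop.1 from x.2 ▸ mem_of_mem_genFib f y w.2 U.unop.2) s,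
            fun w => ⟨(Opens.map f).obj U.unop.1, show f w.1 ∈ U.unop.1 from mem_of_mem_genFib f y w.2 U.unop.2,
              s, Eventually.of_forall fun _ _ _ _ => rfl⟩⟩
          map_zero' := Subtype.ext (funext fun w => funext fun x => map_zero _)
          map_add' := fun _ _ => Subtype.ext (funext fun w => funext fun x => map_add _ _ _) }
      naturality := fun U U' i => by
        ext s
        refine Subtype.ext (funext fun w => funext fun x => ?_)
        exact TopCat.Presheaf.germ_res_apply (F := G.obj) ((Opens.map f).map ((OpenNhds.inclusion y).map i.unop))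
          x.1 _ s }

/-- Germs along the preimage. -/
def toGen : CohTop.push f ⋙ stk y ⟶
    gBifunctor X ⋙ (evaluation (Over X)ᵒᵖ AddCommGrpCat.{u}).obj (op (subOver (genFib f y))) where
  app G := colimit.desc _ (genCocone f y G)
  naturality G G' φ := by
    refine colimit.hom_ext fun U => ?_
    refine (colimit.ι_map_assoc _ U _).trans ?_
    refine ((congrArg (_ ≫ ·) (colimit.ι_desc (genCocone f y G') U)).trans ?_)
    refine Eq.trans ?_ (colimit.ι_desc_assoc (genCocone f y G) U _).symm
    ext s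
    refine Subtype.ext (funext fun w => funext fun x => ?_)
    exact (TopCat.Presheaf.stalkFunctor_map_germ_apply ((Opens.map f).obj U.unop.1) x.1 _ φ.hom s).symm

omit [PrespectralSpace X] [QuasiSeparatedSpace X] [CompactSpace X] [QuasiSober X] [PrespectralSpace Y]
  [QuasiSeparatedSpace Y] in
theorem toGen_germ (G : CohTop.Ab X) (U : Opens Y) (hy : y ∈ U) (s : G.obj.obj (op ((Opens.map f).obj U)))
    (w : (subOver (genFib f y)).left) (x : X) (e : (subOver (genFib f y)).hom w = x) :
    (((toGen f y).app G (TopCat.Presheaf.germ ((CohTop.push f).obj G).obj U y hy s)) :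
        gGroup G (subOver (genFib f y))).1 w ⟨x, e⟩ =
      gm G x (show f x ∈ U from e ▸ mem_of_mem_genFib f y w.2 hy) s := by
  have h : TopCat.Presheaf.germ ((CohTop.push f).obj G).obj U y hy ≫ (toGen f y).app G =
      (genCocone f y G).ι.app (op ⟨U, hy⟩) := colimit.ι_desc (genCocone f y G) (op ⟨U, hy⟩)
  have h' := ConcreteCategory.congr_hom h s
  exact congrFun (congrFun (congrArg Subtype.val h') w) ⟨x, e⟩

include hf

omit [PrespectralSpace X] [QuasiSeparatedSpace X] [CompactSpace X] [QuasiSober X] in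
/-- The preimage is an intersection of compact opens. -/
theorem isQCInter_genFib [CompactSpace X] [CompactSpace Y] [QuasiSober X] [PrespectralSpace X]
    [QuasiSeparatedSpace X] : IsQCInter (genFib f y) := by
  have hsep : ∀ x ∉ genFib f y, ∃ V : Opens X, IsCompact (V : Set X) ∧ genFib f y ⊆ (V : Set X) ∧ x ∉ V := by
    intro x hx
    obtain ⟨U, hU, hyU, hxU⟩ := not_specializes_iff_exists_open.1
      (fun hs : f x ⤳ y => hx (specializes_iff_mem_closure.1 hs))
    obtain ⟨W, hyW, hW, hWU⟩ := exists_compact_le (U := (⟨U, hU⟩ : Opens Y)) hyU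
    exact ⟨(Opens.map f).obj W, hf.isCompact_preimage_of_isOpen W.isOpen hW, fun z hz => mem_of_mem_genFib f y hz hyW,
      fun h => hxU (hWU h)⟩
  refine ⟨?_, hsep⟩
  choose V hV hTV hxV using hsep
  have e : genFib f y = ⋂ x : ↥(genFib f y)ᶜ, (V x.1 x.2 : Set X) :=
    Set.Subset.antisymm (fun z hz => Set.mem_iInter.2 fun x => hTV x.1 x.2 hz) fun z hz => by_contra fun h =>
      hxV z h (Set.mem_iInter.1 hz ⟨z, h⟩)
  rw [e]
  have hc : IsClosed[constructibleTopology X] (⋂ x : ↥(genFib f y)ᶜ, (V x.1 x.2 : Set X)) :=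
    @isClosed_iInter X _ (constructibleTopology X) _ fun x => @IsClosed.mk X (constructibleTopology X) _
      ((show IsCompact ((V x.1 x.2 : Set X)ᶜ)ᶜ by rw [compl_compl]; exact hV _ _).isOpen_constructibleTopology_of_isClosed
        (V x.1 x.2).isOpen.isClosed_compl)
  exact isCompact_of_finite_subcover fun {ι} O hO hcov =>
    @IsCompact.elim_finite_subcover X (constructibleTopology X) _ _ (isCompact_of_isClosed_constructible hc) O
      (fun i => isOpen_constructible_of_open ⟨O i, hO i⟩) hcov

/-- Neighbourhoods of the preimage contain a tube. -/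
theorem exists_tube [CompactSpace Y] (V : Opens X) (hV : genFib f y ⊆ (V : Set X)) :
    ∃ U : Opens Y, y ∈ U ∧ (Opens.map f).obj U ≤ V := by
  classical
  let D : Set X := (V : Set X)ᶜ
  have hD : IsClosed[constructibleTopology X] D :=
    @IsClosed.mk X (constructibleTopology X) _ (by rw [compl_compl]; exact isOpen_constructible_of_open V)
  have hsep : ∀ x : D, ∃ W : Opens Y, y ∈ W ∧ IsCompact (W : Set Y) ∧ f x.1 ∉ W := fun x => by
    obtain ⟨U, hU, hyU, hxU⟩ := not_specializes_iff_exists_open.1
      (fun hs : f x.1 ⤳ y => x.2 (hV (specializes_iff_mem_closure.1 hs)))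
    obtain ⟨W, hyW, hW, hWU⟩ := exists_compact_le (U := (⟨U, hU⟩ : Opens Y)) hyU
    exact ⟨W, hyW, hW, fun h => hxU (hWU h)⟩
  choose W hyW hW hxW using hsep
  obtain ⟨t, ht⟩ := @IsCompact.elim_finite_subcover X (constructibleTopology X) D _
    (isCompact_of_isClosed_constructible hD) (fun x : D => ((Opens.map f).obj (W x) : Set X)ᶜ)
    (fun x => (show IsCompact (((Opens.map f).obj (W x) : Set X)ᶜ)ᶜ by
      rw [compl_compl]; exact hf.isCompact_preimage_of_isOpen (W x).isOpen (hW x)).isOpen_constructibleTopology_of_isClosed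
      ((Opens.map f).obj (W x)).isOpen.isClosed_compl)
    (fun x hx => Set.mem_iUnion.2 ⟨⟨x, hx⟩, hxW ⟨x, hx⟩⟩)
  refine ⟨t.inf W, ?_, fun x hx => by_contra fun hxV => ?_⟩
  · rw [← SetLike.mem_coe, Opens.coe_finset_inf, Finset.inf_set_eq_iInter]
    exact Set.mem_iInter₂.2 fun i _ => hyW i
  · obtain ⟨i, hi, hxi⟩ := Set.mem_iUnion₂.1 (ht (hxV : x ∈ D))
    exact hxi ((Finset.inf_le (f := W) hi : t.inf W ≤ W i) hx)

theorem isIso_toGen [CompactSpace Y] (G : CohTop.Ab X) : IsIso ((toGen f y).app G) := by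
  rw [ConcreteCategory.isIso_iff_bijective]
  refine ⟨(injective_iff_map_eq_zero ((toGen f y).app G).hom).2 fun g hg => ?_, fun σ => ?_⟩
  · obtain ⟨U, hy, s, rfl⟩ := TopCat.Presheaf.germ_exist (C := AddCommGrpCat.{u}) ((CohTop.push f).obj G).obj g
    obtain ⟨V, hVU, hTV, hV⟩ := exists_res_eq_zero (F := G) (U := (Opens.map f).obj U) s (genFib f y) fun x hx =>
      ⟨mem_of_mem_genFib f y hx hy, (toGen_germ f y G U hy s ⟨x, hx⟩ x rfl).symm.trans
        (congrFun (congrFun (congrArg Subtype.val hg) ⟨x, hx⟩) ⟨x, rfl⟩)⟩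
    obtain ⟨U', hy', hU'V⟩ := exists_tube f hf y V hTV
    refine (TopCat.Presheaf.germ_res_apply (F := ((CohTop.push f).obj G).obj) (homOfLE inf_le_left) y
      (⟨hy, hy'⟩ : y ∈ U ⊓ U') s).symm.trans ?_
    have h0 : ((CohTop.push f).obj G).obj.map (homOfLE (inf_le_left : U ⊓ U' ≤ U)).op s = 0 := by
      have hle : (Opens.map f).obj (U ⊓ U') ≤ V := fun z hz => hU'V hz.2
      exact (res_res G hVU hle s).symm.trans ((congrArg (G.obj.map (homOfLE hle).op) hV).trans (map_zero _))
    exact (congrArg _ h0).trans (map_zero _)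
  · obtain ⟨V, s, hV, hs⟩ := (isQCInter_genFib f hf y).exists_section σ
    obtain ⟨U, hy, hUV⟩ := exists_tube f hf y V hV
    refine ⟨TopCat.Presheaf.germ ((CohTop.push f).obj G).obj U y hy (G.obj.map (homOfLE hUV).op s),
      Subtype.ext (funext fun w => funext fun ⟨x, e⟩ => ?_)⟩
    exact (toGen_germ f y G U hy _ w x e).trans ((gm_res G hUV x _ s).trans (hs w x e).symm)

/-- Stalks of higher direct images along spectral maps. -/
theorem nonempty_Rpush_stalk_iso [CompactSpace Y] (F : CohTop.Ab X) (p : ℕ) :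
    Nonempty (CohTop.stalk ((CohTop.Rpush f p).obj F) y ≅
      AddCommGrpCat.of (CohTop.H ((CohTop.pull (subOver (genFib f y)).hom).obj F) p)) := by
  haveI : ∀ G, IsIso ((toGen f y).app G) := isIso_toGen f hf y
  haveI : IsIso (toGen f y) := NatIso.isIso_of_isIso_app _
  haveI : (stk y).Additive := inferInstanceAs
    (TopCat.Sheaf.forget AddCommGrpCat.{u} Y ⋙ TopCat.Presheaf.stalkFunctor AddCommGrpCat.{u} y).Additive
  haveI : PreservesFiniteLimits (stk y) := inferInstanceAs (PreservesFiniteLimits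
    (TopCat.Sheaf.forget AddCommGrpCat.{u} Y ⋙ TopCat.Presheaf.stalkFunctor AddCommGrpCat.{u} y))
  haveI : ∀ U : Opens Y, Decidable (y ∈ U) := fun U => Classical.dec _
  haveI : PreservesColimitsOfSize.{0, 0} (stk y) :=
    (stalkSkyscraperSheafAdjunction (C := AddCommGrpCat.{u}) y).leftAdjoint_preservesColimits
  haveI : PreservesFiniteColimits (stk y) := PreservesColimitsOfSize.preservesFiniteColimits.{0, 0} _
  obtain ⟨e⟩ := nonempty_gB_rightDerived_iso (isQCInter_genFib f hf y) F p
  exact ⟨((SiteBase.rightDerivedCompIso (CohTop.push f) (stk y) p).app F).symm ≪≫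
    (SiteBase.rightDerivedCongr (asIso (toGen f y)) p).app F ≪≫ e⟩

end Stalk

end Groth.Agent.TopVanish

end
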