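import Groth.Agent.TopVanish.Van
import Mathlib.CategoryTheory.Abelian.GrothendieckCategory.Subobject
import Mathlib.CategoryTheory.Abelian.Images
import Mathlib.Topology.LocallyConstant.Basic

/-!
# Vanishing reduces to free sheaves on compact opens
-/

set_option autoImplicit false
set_option synthInstance.maxHeartbeats 400000

universe u

open CategoryTheory CategoryTheory.Limits Opposite TopologicalSpace Topology Filter

noncomputable section

namespace Groth.Agent.TopVanish

variable {X : TopCat.{u}}

/-- A section over a compact open. -/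
abbrev CSec (F : CohTop.Ab X) : Type u := Σ U : {U : Opens X // IsCompact (U : Set X)}, F.obj.obj (op U.1)

variable {F : CohTop.Ab X}

/-- The map classifying a section. -/
def secMap (q : CSec F) : CohCx.freeSheaf (Opens.grothendieckTopology X) q.1.1 ⟶ F :=
  (SiteBase.secEquiv (Opens.grothendieckTopology X) q.1.1 F).symm q.2

/-- The subobject generated by finitely many sections. -/
def genSub (s : Finset (CSec F)) : Subobject F := s.sup fun q => imageSubobject (secMap q)

lemma secMap_univ (q : CSec F) :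
    (secMap q).hom.app (op q.1.1) (SiteBase.univSection (Opens.grothendieckTopology X) q.1.1) = q.2 :=
  (SiteBase.secEquiv_apply q.1.1 (secMap q)).symm.trans
    ((SiteBase.secEquiv (Opens.grothendieckTopology X) q.1.1 F).apply_symm_apply q.2)

lemma exists_section_genSub {s : Finset (CSec F)} {q : CSec F} (hq : q ∈ s) :
    ∃ t : (genSub s : CohTop.Ab X).obj.obj (op q.1.1), (genSub s).arrow.hom.app (op q.1.1) t = q.2 := by
  let g := factorThruImageSubobject (secMap q) ≫
    Subobject.ofLE (imageSubobject (secMap q)) (genSub s) (Finset.le_sup (f := fun q : CSec F => imageSubobject (secMap q)) hq)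
  refine ⟨g.hom.app (op q.1.1) (SiteBase.univSection (Opens.grothendieckTopology X) q.1.1), ?_⟩
  have hg : g ≫ (genSub s).arrow = secMap q := by
    exact (Category.assoc _ _ _).trans ((congrArg (factorThruImageSubobject (secMap q) ≫ ·)
      (Subobject.ofLE_arrow _)).trans (imageSubobject_arrow_comp (secMap q)))
  exact (congrArg (fun t : _ ⟶ F => t.hom.app (op q.1.1) _) hg).trans (secMap_univ q)

variable [PrespectralSpace X] [QuasiSeparatedSpace X] [CompactSpace X]

theorem van_colimit {n : ℕ} {Λ : Type u} [SmallCategory Λ] [IsFiltered Λ] (D : Λ ⥤ CohTop.Ab X)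
    (h : ∀ j, Van n (D.obj j)) : Van n (colimit D) := fun p hp => by
  haveI := preservesColimitsOfShape_HU (Λ := Λ) (⊤ : Opens X) isCompact_univ p
  refine subsingleton_of_forall_eq 0 fun x => ?_
  obtain ⟨j, t, ht⟩ := Concrete.isColimit_exists_rep _ (isColimitOfPreserves
    ((Sheaf.cohomologyPresheafFunctor (Opens.grothendieckTopology X) p).flip.obj (op (⊤ : Opens X)))
    (colimit.isColimit D)) x
  rw [← ht, show t = 0 from (h j p hp).elim _ _]
  exact map_zero _

omit [PrespectralSpace X] [QuasiSeparatedSpace X] [CompactSpace X] in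
/-- A directed family of subobjects has colimit a subobject. -/
theorem exists_colim_subobject {C : Type*} [Category.{u} C] [Abelian C] [IsGrothendieckAbelian.{u} C] {F : C}
    {ι : Type u} [Preorder ι] [IsDirected ι (· ≤ ·)] [Nonempty ι] (S : ι → Subobject F) (hS : Monotone S) :
    ∃ (D : ι ⥤ C) (_ : ∀ i, D.obj i ≅ (S i : C)) (f : colimit D ⟶ F),
      Mono f ∧ ∀ i, ∃ g : (S i : C) ⟶ colimit D, g ≫ f = (S i).arrow := by
  let D : ι ⥤ C := (hS.functor ⋙ Subobject.representative) ⋙ MonoOver.forget F ⋙ Over.forget F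
  let f : colimit D ⟶ F := colimit.desc D (Cocone.mk F
    { app := fun i => (Subobject.representative.obj (S i)).obj.hom
      naturality := fun i j k => (Over.w ((MonoOver.forget F).map
        ((hS.functor ⋙ Subobject.representative).map k))).trans (Category.comp_id _).symm })
  have hf : ∀ i, colimit.ι D i ≫ f = (S i).arrow := fun i => colimit.ι_desc _ i
  exact ⟨D, fun i => Iso.refl _, f, IsGrothendieckAbelian.mono_of_isColimit_monoOver
    (hS.functor ⋙ Subobject.representative) (colimit.isColimit D) f (fun i => hf i), fun i => ⟨colimit.ι D i, hf i⟩⟩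

/-- A sheaf is in the class if its finitely generated subsheaves are. -/
theorem van_of_genSub {n : ℕ} (h : ∀ s : Finset (CSec F), Van n (genSub s : CohTop.Ab X)) : Van n F := by
  classical
  obtain ⟨D, e, f, hmono, hf⟩ := @exists_colim_subobject (CohTop.Ab X) _ _ _ F (Finset (CSec F)) _ _ _
    genSub (fun s t hst => Finset.sup_mono hst)
  haveI : Mono f := hmono
  haveI : Epi f := by
    refine (Sheaf.isLocallySurjective_iff_epi' AddCommGrpCat.{u} f).1 ⟨fun {V} c x hx => ?_⟩
    obtain ⟨W, hxW, hWc, hWV⟩ := exists_compact_le hx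
    let q : CSec F := ⟨⟨W, hWc⟩, F.obj.map (homOfLE hWV).op c⟩
    obtain ⟨t, ht⟩ := exists_section_genSub (s := {q}) (Finset.mem_singleton_self q)
    obtain ⟨g, hg⟩ := hf {q}
    refine ⟨W, homOfLE hWV, ⟨g.hom.app (op W) t, ?_⟩, hxW⟩
    exact (congrArg (fun m : (genSub {q} : CohTop.Ab X) ⟶ F => m.hom.app (op W) t) hg).trans ht
  haveI : IsIso f := isIso_of_mono_of_epi f
  exact van_of_iso (asIso f) (van_colimit D fun i => van_of_iso (e i).symm (h i))

omit [CompactSpace X] in
/-- Finitely generated subsheaves of a subsheaf of functions are generated by a list. -/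
theorem exists_genSub_iso {U : Opens X} {K : CohTop.Ab X} (f : K ⟶ lcSh (sgl (U : Set X) 1)) [Mono f]
    (s : Finset (CSec K)) :
    ∃ l : List (Opens X × ℤ), (∀ a ∈ l, IsCompact (a.1 : Set X)) ∧
      Nonempty ((genSub s : CohTop.Ab X) ≅ lcSh (gen l)) := by
  classical
  let φ : ∀ q : CSec K, secGroup (sgl (U : Set X) 1) q.1.1 := fun q => f.hom.app (op q.1.1) q.2
  have hlc : ∀ q : CSec K, IsLocallyConstant (φ q).1 := fun q =>
    (IsLocallyConstant.iff_eventually_eq _).2 fun y => ((φ q).2.2 y trivial).mono fun z hz => hz trivial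
  have hfin : ∀ q : CSec K, (Set.range (φ q).1).Finite := fun q =>
    haveI : CompactSpace q.1.1 := isCompact_iff_compactSpace.1 q.1.2
    (hlc q).range_finite
  let A : CSec K → ℤ → Opens X := fun q m =>
    ⟨(↑) '' ((φ q).1 ⁻¹' {m}), (q.1.1.isOpen.isOpenMap_subtype_val) _ ((hlc q).isOpen_fiber m)⟩
  have hAc : ∀ q m, IsCompact (A q m : Set X) := fun q m =>
    haveI : CompactSpace q.1.1 := isCompact_iff_compactSpace.1 q.1.2
    (((hlc q).isClosed_fiber m).isCompact).image continuous_subtype_val
  let l : List (Opens X × ℤ) := s.toList.flatMap fun q => (hfin q).toFinset.toList.map fun m => (A q m, m)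
  have hgenN : ∀ (l' : List (Opens X × ℤ)) (a : Opens X × ℤ), a ∈ l' → ∀ x, (sgl (a.1 : Set X) a.2).N x ≤ genN l' x := by
    intro l'
    induction l' with
    | nil => intro a ha; cases ha
    | cons b l' ih =>
      intro a ha x
      rcases List.mem_cons.1 ha with rfl | h
      · exact le_sup_left
      · exact (ih a h x).trans le_sup_right
  have hgenle : ∀ (l' : List (Opens X × ℤ)) (x : X) (G : AddSubgroup ℤ),
      (∀ a ∈ l', (sgl (a.1 : Set X) a.2).N x ≤ G) → genN l' x ≤ G := by
    intro l'
    induction l' with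
    | nil => intro x G _; exact bot_le
    | cons b l' ih =>
      intro x G h
      exact sup_le (h b List.mem_cons_self) (ih x G fun a ha => h a (List.mem_cons_of_mem _ ha))
  have hmem : ∀ a ∈ l, ∃ q ∈ s, ∃ m, a = (A q m, m) := fun a ha => by
    obtain ⟨q, hq, ha⟩ := List.mem_flatMap.1 ha
    obtain ⟨m, -, rfl⟩ := List.mem_map.1 ha
    exact ⟨q, Finset.mem_toList.1 hq, m, rfl⟩
  have hl : ∀ q ∈ s, ∀ y : q.1.1, (φ q).1 y ∈ genN l y := fun q hq y => by
    refine hgenN l (A q ((φ q).1 y), (φ q).1 y) (List.mem_flatMap.2 ⟨q, Finset.mem_toList.2 hq,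
      List.mem_map.2 ⟨_, Finset.mem_toList.2 ((hfin q).mem_toFinset.2 (Set.mem_range_self y)), rfl⟩⟩) y ?_
    rw [sgl_N_of_mem _ (show (y : X) ∈ (A q ((φ q).1 y) : Set X) from ⟨y, rfl, rfl⟩)]
    exact AddSubgroup.mem_zmultiples _
  have hsub : Dat.Hom (gen l) (sgl (U : Set X) 1) := ⟨fun _ _ => trivial, fun x _ => by
    by_cases hx : x ∈ (U : Set X)
    · rw [sgl_N_of_mem 1 hx]
      exact fun z _ => Int.mem_zmultiples_iff.2 (one_dvd z)
    · refine hgenle l x _ fun a ha => ?_
      obtain ⟨q, -, m, rfl⟩ := hmem a ha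
      intro z hz
      by_cases hxA : x ∈ (A q m : Set X)
      · obtain ⟨y, hy, rfl⟩ := hxA
        have h0 : m = 0 := by
          have := (φ q).2.1 y
          rw [show (φ q).1 y = m from hy, sgl_N_of_notMem 1 hx] at this
          exact AddSubgroup.mem_bot.1 this
        subst h0
        rw [sgl_N_of_mem (U := (A q 0 : Set X)) 0 ⟨y, hy, rfl⟩, AddSubgroup.zmultiples_zero_eq_bot] at hz
        rw [AddSubgroup.mem_bot.1 hz]
        exact zero_mem _
      · rw [sgl_N_of_notMem m hxA] at hz
        rw [AddSubgroup.mem_bot.1 hz]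
        exact zero_mem _⟩
  let inc := rmap hsub
  haveI : Mono inc := by
    haveI : ∀ V, Mono (inc.hom.app V) := fun V => (AddCommGrpCat.mono_iff_injective _).2
      fun (a b : secGroup (gen l) V.unop) h => Subtype.ext (funext fun y =>
        (rmap_apply_of_eq hsub (fun _ _ => trivial) a y).symm.trans
          ((congrFun (congrArg Subtype.val h) y).trans (rmap_apply_of_eq hsub (fun _ _ => trivial) b y)))
    haveI : Mono inc.hom := NatTrans.mono_of_mono_app _
    haveI : Mono ((sheafToPresheaf _ _).map inc) := ‹Mono inc.hom›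
    exact (sheafToPresheaf _ _).mono_of_mono_map ‹Mono ((sheafToPresheaf _ _).map inc)›
  let P : Subobject K := kernelSubobject (f ≫ cokernel.π inc)
  have hP : genSub s ≤ P := Finset.sup_le fun q hq => by
    let σ₀ : secGroup (gen l) q.1.1 := ⟨(φ q).1, hl q hq, (φ q).2.2⟩
    let σ : (lcSh (gen l)).obj.obj (op q.1.1) := σ₀
    have hσ : secMap q ≫ f = (SiteBase.secEquiv (Opens.grothendieckTopology X) q.1.1 (lcSh (gen l))).symm σ ≫ inc := by
      refine (SiteBase.secEquiv_symm_comp q.1.1 q.2 f).trans (Eq.trans ?_ (SiteBase.secEquiv_symm_comp q.1.1 σ inc).symm)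
      exact congrArg _ (Subtype.ext (funext fun y => (rmap_apply_of_eq hsub (fun _ _ => trivial) σ₀ y).symm))
    have h0 : secMap q ≫ f ≫ cokernel.π inc = 0 := by
      rw [← Category.assoc, hσ, Category.assoc, cokernel.condition, comp_zero]
    exact imageSubobject_le _ (factorThruKernelSubobject _ (secMap q) h0)
      (factorThruKernelSubobject_comp_arrow _ (secMap q) h0)
  let j := (genSub s).arrow ≫ f
  have hj0 : j ≫ cokernel.π inc = 0 := by
    rw [Category.assoc, ← Subobject.ofLE_arrow hP, Category.assoc, kernelSubobject_arrow_comp, comp_zero]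
  let ψ : (genSub s : CohTop.Ab X) ⟶ lcSh (gen l) := Abelian.monoLift inc j hj0
  have hψ : ψ ≫ inc = j := Abelian.monoLift_comp inc j hj0
  haveI : Mono ψ := mono_of_mono_fac hψ
  haveI : Epi ψ := by
    refine (Sheaf.isLocallySurjective_iff_epi' AddCommGrpCat.{u} ψ).1 ⟨fun {V} c x hx => ?_⟩
    let Good : AddSubgroup ℤ :=
      { carrier := {m | ∃ (W : Opens X) (t : (genSub s : CohTop.Ab X).obj.obj (op W)), x ∈ W ∧
          ∀ y : W, (j.hom.app (op W) t : secGroup (sgl (U : Set X) 1) W).1 y = m}
        zero_mem' := ⟨⊤, 0, trivial, fun y =>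
          congrFun (congrArg Subtype.val (map_zero (j.hom.app (op (⊤ : Opens X))).hom)) y⟩
        add_mem' := by
          rintro a b ⟨W, t, hW, ht⟩ ⟨W', t', hW', ht'⟩
          refine ⟨W ⊓ W', (genSub s : CohTop.Ab X).obj.map (homOfLE inf_le_left).op t +
            (genSub s : CohTop.Ab X).obj.map (homOfLE inf_le_right).op t', ⟨hW, hW'⟩, fun y => ?_⟩
          rw [map_add, ← res_app, ← res_app]
          exact congrArg₂ (· + ·) (ht ⟨y.1, y.2.1⟩) (ht' ⟨y.1, y.2.2⟩)
        neg_mem' := by
          rintro a ⟨W, t, hW, ht⟩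
          refine ⟨W, -t, hW, fun y => ?_⟩
          rw [map_neg]
          exact congrArg Neg.neg (ht y) }
    have hG : genN l x ≤ Good := hgenle l x _ fun a ha => by
      obtain ⟨q, hq, m, rfl⟩ := hmem a ha
      by_cases hxA : x ∈ (A q m : Set X)
      · rw [sgl_N_of_mem m hxA, AddSubgroup.zmultiples_le]
        obtain ⟨t, ht⟩ := exists_section_genSub hq
        have hle : A q m ≤ q.1.1 := fun z hz => by
          obtain ⟨z', -, rfl⟩ := hz
          exact z'.2
        refine ⟨A q m, (genSub s : CohTop.Ab X).obj.map (homOfLE hle).op t, hxA, fun y => ?_⟩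
        rw [← res_app]
        obtain ⟨z, hz, hzy⟩ := y.2
        refine (lcSh_res (sgl (U : Set X) 1) hle _ y).trans ?_
        refine (congrArg (fun w : secGroup (sgl (U : Set X) 1) q.1.1 => w.1 ⟨y.1, hle y.2⟩)
          (congrArg (f.hom.app (op q.1.1)) ht)).trans ?_
        exact (congrArg (φ q).1 (Subtype.ext hzy.symm)).trans hz
      · rw [sgl_N_of_notMem m hxA]
        exact bot_le
    obtain ⟨W, hWV, hxW, hc⟩ := exists_const_nhd (c : secGroup (gen l) V) ⟨x, hx⟩ trivial
    obtain ⟨W', t, hxW', ht⟩ := hG ((c : secGroup (gen l) V).2.1 ⟨x, hx⟩)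
    refine ⟨W ⊓ W', homOfLE (inf_le_left.trans hWV),
      ⟨(genSub s : CohTop.Ab X).obj.map (homOfLE inf_le_right).op t, ?_⟩, ⟨hxW, hxW'⟩⟩
    refine SiteBase.sheaf_app_injective inc (W ⊓ W') ?_
    refine (congrArg (fun m : (genSub s : CohTop.Ab X) ⟶ lcSh (sgl (U : Set X) 1) => m.hom.app (op (W ⊓ W'))
      ((genSub s : CohTop.Ab X).obj.map (homOfLE inf_le_right).op t)) hψ).trans ?_
    refine Subtype.ext (funext fun y => ?_)
    refine Eq.trans ?_ (rmap_apply_of_eq hsub (fun _ _ => trivial) _ y).symm
    rw [← res_app]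
    exact (ht ⟨y.1, y.2.2⟩).trans (hc ⟨y.1, y.2.1⟩ trivial).symm
  refine ⟨l, fun a ha => ?_, ⟨@asIso _ _ _ _ ψ (isIso_of_mono_of_epi ψ)⟩⟩
  obtain ⟨q, -, m, rfl⟩ := hmem a ha
  exact hAc q m

omit [PrespectralSpace X] [QuasiSeparatedSpace X] [CompactSpace X] in
/-- Adding one generator to a subobject. -/
theorem exists_sup_ses {C : Type*} [Category C] [Abelian C] {F : C} (A : Subobject F) {G : C} (m : G ⟶ F) :
    ∃ (a : (A : C) ⟶ ((imageSubobject m ⊔ A : Subobject F) : C)), Mono a ∧
      ∃ b : G ⟶ ((imageSubobject m ⊔ A : Subobject F) : C), Epi (b ≫ cokernel.π a) := by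
  let T := imageSubobject m ⊔ A
  let a := Subobject.ofLE A T le_sup_right
  let b := factorThruImageSubobject m ≫ Subobject.ofLE _ T le_sup_left
  have hb : b ≫ T.arrow = m := by simp [b]
  haveI : Epi (biprod.desc b a) := by
    have h1 : T ≤ Subobject.mk (image.ι (biprod.desc b a) ≫ T.arrow) := by
      refine sup_le (imageSubobject_le_mk _ _ (biprod.inl ≫ factorThruImage (biprod.desc b a)) ?_) ?_
      · rw [Category.assoc, image.fac_assoc, biprod.inl_desc_assoc, hb]
      · refine Subobject.le_mk_of_comm (biprod.inr ≫ factorThruImage (biprod.desc b a)) ?_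
        rw [Category.assoc, image.fac_assoc, biprod.inr_desc_assoc]
        exact Subobject.ofLE_arrow le_sup_right
    haveI : Epi (image.ι (biprod.desc b a)) :=
      epi_of_epi_fac (f := Subobject.ofLEMk T _ h1) (h := 𝟙 _) (by
        rw [← cancel_mono T.arrow, Category.assoc, Category.id_comp]
        exact Subobject.ofLEMk_comp h1)
    rw [← image.fac (biprod.desc b a)]
    exact epi_comp _ _
  refine ⟨a, inferInstance, b, Preadditive.epi_of_cancel_zero _ fun {Z} g hg => ?_⟩
  have : biprod.desc b a ≫ cokernel.π a ≫ g = biprod.desc b a ≫ 0 := by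
    refine biprod.hom_ext' _ _ ?_ ?_
    · rw [biprod.inl_desc_assoc, ← Category.assoc, hg, biprod.inl_desc_assoc, comp_zero]
    · rw [biprod.inr_desc_assoc, cokernel.condition_assoc, zero_comp, biprod.inr_desc_assoc, comp_zero]
  exact (cancel_epi (cokernel.π a)).1 (((cancel_epi (biprod.desc b a)).1 this).trans comp_zero.symm)

variable {n : ℕ} (h : ∀ U : Opens X, IsCompact (U : Set X) → Van n (CohCx.freeSheaf (Opens.grothendieckTopology X) U))
include h

/-- Quotients of free sheaves on compact opens. -/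
theorem van_of_epi (U : Opens X) (hU : IsCompact (U : Set X)) {Q : CohTop.Ab X}
    (e : CohCx.freeSheaf (Opens.grothendieckTopology X) U ⟶ Q) [Epi e] : Van n Q := by
  let S := ShortComplex.mk (kernel.ι e) e (kernel.condition e)
  have hS : S.ShortExact := { exact := ShortComplex.exact_of_f_is_kernel _ (kernelIsKernel e) }
  refine van_X₃ hS (van_of_genSub fun s => ?_) (h U hU)
  obtain ⟨l, hl, ⟨i⟩⟩ := exists_genSub_iso (kernel.ι e ≫ (freeIsoSgl U).hom) s
  exact van_of_iso i.symm (van_gen (fun A => IsCompact (A : Set X)) (fun _ _ => isCompact_inf) h _ l rfl hl)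

/-- Finitely generated subsheaves. -/
theorem van_genSub (F : CohTop.Ab X) (s : Finset (CSec F)) : Van n (genSub s : CohTop.Ab X) := by
  classical
  induction s using Finset.induction with
  | empty => exact van_of_isZero (IsZero.of_iso (isZero_zero _) Subobject.botCoeIsoZero)
  | @insert q s _ ih =>
    obtain ⟨a, ha, b, hb⟩ := @exists_sup_ses (CohTop.Ab X) _ _ F (genSub s) _ (secMap q)
    have e : genSub (insert q s) = imageSubobject (secMap q) ⊔ genSub s := Finset.sup_insert
    rw [e]
    have hS : (ShortComplex.mk a (cokernel.π a) (cokernel.condition a)).ShortExact :=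
      { exact := ShortComplex.exact_of_g_is_cokernel _ (cokernelIsCokernel a)
        mono_f := ha }
    exact van_X₂ hS ih (@van_of_epi _ _ _ _ _ h q.1.1 q.1.2 _ (b ≫ cokernel.π a) hb)

/-- Vanishing for all sheaves from vanishing for free sheaves on compact opens. -/
theorem van_all (F : CohTop.Ab X) : Van n F := van_of_genSub (van_genSub h F)

end Groth.Agent.TopVanish

end
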