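import Mathlib.CategoryTheory.Sites.SheafCohomology.Basic
import Mathlib.Topology.Sheaves.Abelian
import Mathlib.Algebra.Homology.DerivedCategory.Ext.ExactSequences
import Mathlib.CategoryTheory.Limits.Preorder

/-!
# Surjectivity on sections at the end of an exact sequence
-/

set_option autoImplicit false

universe u

open CategoryTheory CategoryTheory.Limits Opposite TopologicalSpace Abelian

noncomputable section

namespace Groth.Agent.TopVanish

variable {X : TopCat.{u}} [HasExt.{u} (Sheaf (Opens.grothendieckTopology X) AddCommGrpCat.{u})]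
  {S : ShortComplex (Sheaf (Opens.grothendieckTopology X) AddCommGrpCat.{u})} (hS : S.ShortExact)
include hS

theorem subsingleton_H_X₃ (n : ℕ) (h₁ : Subsingleton (Sheaf.H S.X₁ (n + 1))) (h₂ : Subsingleton (Sheaf.H S.X₂ n)) :
    Subsingleton (Sheaf.H S.X₃ n) := by
  refine subsingleton_of_forall_eq 0 fun x => ?_
  obtain ⟨y, rfl⟩ := Ext.covariant_sequence_exact₃ _ hS x rfl (h₁.elim _ _)
  rw [show y = 0 from h₂.elim _ _, Ext.zero_comp]

theorem sections_surjective_of_H_one (h₁ : Subsingleton (Sheaf.H S.X₁ 1)) :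
    Function.Surjective (S.g.hom.app (op (⊤ : Opens X))).hom := by
  intro z
  let hT : IsTerminal (⊤ : Opens X) := isTerminalTop
  obtain ⟨y, hy⟩ := Ext.covariant_sequence_exact₃ _ hS ((Sheaf.H.equiv₀ S.X₃ hT).symm z) (n₁ := 1) rfl (h₁.elim _ _)
  refine ⟨Sheaf.H.equiv₀ S.X₂ hT y, ?_⟩
  exact (Sheaf.H.equiv₀_naturality hT S.g y).trans
    ((congrArg (Sheaf.H.equiv₀ S.X₃ hT) hy).trans (AddEquiv.apply_symm_apply _ z))

omit hS

omit [HasExt.{u} (Sheaf (Opens.grothendieckTopology X) AddCommGrpCat.{u})] in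
/-- The kernels along an exact complex. -/
theorem shortExact_kernel_step {C : Type*} [Category C] [Abelian C] (F : ChainComplex C ℕ) (j : ℕ) (hj : 1 ≤ j)
    (hex : F.ExactAt j) :
    (ShortComplex.mk (kernel.ι (F.d (j + 1) j)) (kernel.lift (F.d j (j - 1)) (F.d (j + 1) j) (F.d_comp_d _ _ _))
      (by rw [← cancel_mono (kernel.ι (F.d j (j - 1))), Category.assoc, kernel.lift_ι, kernel.condition, zero_comp])
      ).ShortExact := by
  have he := (F.exactAt_iff' (j + 1) j (j - 1) (by simp)
    ((ComplexShape.down ℕ).next_eq' (show (ComplexShape.down ℕ).Rel j (j - 1) from Nat.sub_add_cancel hj))).1 hex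
  haveI : Epi (kernel.lift (F.d j (j - 1)) (F.d (j + 1) j) (F.d_comp_d _ _ _)) := he.epi_kernelLift
  refine { exact := ShortComplex.exact_of_f_is_kernel _ ?_ }
  exact KernelFork.IsLimit.ofι _ _
    (fun g hg => kernel.lift _ g (by
      rw [← kernel.lift_ι (F.d j (j - 1)) (F.d (j + 1) j) (F.d_comp_d _ _ _), ← Category.assoc, hg, zero_comp]))
    (fun g hg => kernel.lift_ι _ _ _) (fun g hg m hm => by rw [← cancel_mono (kernel.ι (F.d (j + 1) j)), hm, kernel.lift_ι])

/-- Surjectivity on global sections from vanishing along a resolution. -/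
theorem sections_surjective_of_resolution (r : ℕ) (hr : 1 ≤ r)
    (F : ChainComplex (Sheaf (Opens.grothendieckTopology X) AddCommGrpCat.{u}) ℕ)
    (hmono : Mono (F.d r (r - 1))) (hepi : Epi (F.d 1 0)) (hex : ∀ j : ℕ, 1 ≤ j → j < r → F.ExactAt j)
    (hvan : ∀ j : ℕ, 2 ≤ j → j ≤ r → Subsingleton (Sheaf.H (F.X j) (j - 1))) :
    Function.Surjective ((F.d 1 0).hom.app (op ⊤)) := by
  have hstep : ∀ j, 1 ≤ j → j < r →
      (ShortComplex.mk (kernel.ι (F.d (j + 1) j)) (kernel.lift (F.d j (j - 1)) (F.d (j + 1) j) (F.d_comp_d _ _ _))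
        (by rw [← cancel_mono (kernel.ι (F.d j (j - 1))), Category.assoc, kernel.lift_ι, kernel.condition, zero_comp])
        ).ShortExact := by
    intro j hj hjr
    exact @shortExact_kernel_step (Sheaf (Opens.grothendieckTopology X) AddCommGrpCat.{u}) _ _ F j hj (hex j hj hjr)
  have key : ∀ k j, r = j + k → 1 ≤ j → Subsingleton (Sheaf.H (kernel (F.d j (j - 1))) j) := by
    intro k
    induction k with
    | zero =>
      intro j hj _
      obtain rfl : j = r := by omega
      haveI : Mono (F.d j (j - 1)) := hmono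
      refine subsingleton_of_forall_eq 0 fun x => ?_
      rw [← Ext.comp_mk₀_id x, (isZero_kernel_of_mono (F.d j (j - 1))).eq_of_src (𝟙 _) 0, Ext.mk₀_zero, Ext.comp_zero]
    | succ k ih =>
      intro j hj hj1
      exact subsingleton_H_X₃ (hstep j hj1 (by omega)) j (ih (j + 1) (by omega) (by omega))
        (by simpa using hvan (j + 1) (by omega) (by omega))
  haveI := hepi
  exact sections_surjective_of_H_one
    (S := ShortComplex.mk (kernel.ι (F.d 1 0)) (F.d 1 0) (kernel.condition _))
    { exact := ShortComplex.exact_of_f_is_kernel _ (kernelIsKernel _) } (key (r - 1) 1 (by omega) le_rfl)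

end Groth.Agent.TopVanish

end
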