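import Groth.Agent.TopVanish.LCSheaf

/-!
# Free sheaves on opens as sheaves of integer functions
-/

set_option autoImplicit false

universe u

open CategoryTheory CategoryTheory.Limits Opposite TopologicalSpace Topology Filter

noncomputable section

namespace Groth.Agent.TopVanish

variable {X : TopCat.{u}}

open scoped Classical in
/-- `n ℤ` on `U`, zero elsewhere. -/
def sgl (U : Set X) (n : ℤ) : Dat X where
  Y := Set.univ
  N x := if x ∈ U then AddSubgroup.zmultiples n else ⊥
  off x hx := absurd trivial hx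

lemma sgl_N_of_mem {U : Set X} (n : ℤ) {x : X} (hx : x ∈ U) : (sgl U n).N x = AddSubgroup.zmultiples n := if_pos hx

lemma sgl_N_of_notMem {U : Set X} (n : ℤ) {x : X} (hx : x ∉ U) : (sgl U n).N x = ⊥ := if_neg hx

lemma sgl_isOp (U : Opens X) (n : ℤ) : (sgl (U : Set X) n).IsOp := fun x _ a ha => by
  by_cases hx : x ∈ U
  · filter_upwards [U.isOpen.mem_nhds hx] with y hy _
    rw [sgl_N_of_mem n hy]
    rwa [sgl_N_of_mem n hx] at ha
  · rw [sgl_N_of_notMem n hx] at ha
    exact Eventually.of_forall fun y _ => by rw [AddSubgroup.mem_bot.1 ha]; exact zero_mem _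

/-- The constant section `n` over opens inside `U`. -/
def sglSec {U : Set X} (n : ℤ) (V : Opens X) (h : (V : Set X) ⊆ U) : secGroup (sgl U n) V :=
  ⟨fun _ => n, fun x => by rw [sgl_N_of_mem n (h x.2)]; exact AddSubgroup.mem_zmultiples n,
    fun _ _ => Eventually.of_forall fun _ _ => rfl⟩

/-- An open neighbourhood on which a section is constant on `Y`. -/
lemma exists_const_nhd {D : Dat X} {V : Opens X} (f : secGroup D V) (x : V) (hx : (x : X) ∈ D.Y) :
    ∃ (W : Opens X) (hW : W ≤ V), (x : X) ∈ W ∧ ∀ y : W, (y : X) ∈ D.Y → f.1 ⟨y.1, hW y.2⟩ = f.1 x := by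
  obtain ⟨t, ht, hto, hxt⟩ := eventually_nhds_iff.1 (f.2.2 x hx)
  obtain ⟨t', ht', rfl⟩ := isOpen_induced_iff.1 hto
  exact ⟨⟨t', ht'⟩ ⊓ V, inf_le_right, ⟨hxt, x.2⟩, fun y hy => ht ⟨y.1, y.2.2⟩ y.2.1 hy⟩

/-- The generator of the free sheaf goes to the constant function `1`. -/
def freeToSgl (U : Opens X) : CohCx.freeSheaf (Opens.grothendieckTopology X) U ⟶ lcSh (sgl (U : Set X) 1) :=
  (SiteBase.secEquiv (Opens.grothendieckTopology X) U (lcSh (sgl (U : Set X) 1))).symm (sglSec 1 U subset_rfl)

lemma freeToSgl_res (U : Opens X) {V : Opens X} (h : V ≤ U) :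
    (freeToSgl U).hom.app (op V) ((CohCx.freeSheaf (Opens.grothendieckTopology X) U).obj.map (homOfLE h).op
      (SiteBase.univSection (Opens.grothendieckTopology X) U)) = sglSec 1 V h := by
  refine (ConcreteCategory.congr_hom ((freeToSgl U).hom.naturality (homOfLE h).op) _).trans ?_
  refine (congrArg ((lcSh (sgl (U : Set X) 1)).obj.map (homOfLE h).op) (a₂ := sglSec 1 U subset_rfl) ?_).trans (Subtype.ext rfl)
  exact (SiteBase.secEquiv_apply U (freeToSgl U)).symm.trans
    ((SiteBase.secEquiv (Opens.grothendieckTopology X) U (lcSh (sgl (U : Set X) 1))).apply_symm_apply _)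

lemma freeAb_subsingleton {T : Type u} [IsEmpty T] (a : FreeAbelianGroup T) : a = 0 := by
  induction a using FreeAbelianGroup.induction_on with
  | zero => rfl
  | of t => exact isEmptyElim t
  | neg t _ => exact isEmptyElim t
  | add x y hx hy => rw [hx, hy, add_zero]

lemma freeAb_of_unique {T : Type u} [Subsingleton T] (t : T) (a : FreeAbelianGroup T) :
    ∃ m : ℤ, a = m • FreeAbelianGroup.of t := by
  induction a using FreeAbelianGroup.induction_on with
  | zero => exact ⟨0, (zero_smul _ _).symm⟩
  | of s => exact ⟨1, by rw [Subsingleton.elim s t, one_smul]⟩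
  | neg s _ => exact ⟨-1, by rw [Subsingleton.elim s t, neg_smul, one_smul]⟩
  | add x y hx hy =>
    obtain ⟨m, rfl⟩ := hx
    obtain ⟨k, rfl⟩ := hy
    exact ⟨m + k, (add_smul m k _).symm⟩

theorem isIso_freeToSgl (U : Opens X) : IsIso (freeToSgl U) := by
  haveI : Epi (freeToSgl U) := by
    refine (Sheaf.isLocallySurjective_iff_epi' AddCommGrpCat.{u} (freeToSgl U)).1 ⟨fun {V} c x hx => ?_⟩
    obtain ⟨W, hWV, hxW, hc⟩ := exists_const_nhd (c : secGroup _ V) ⟨x, hx⟩ trivial
    by_cases hxU : x ∈ U
    · refine ⟨W ⊓ U, homOfLE (inf_le_left.trans hWV), ⟨(c : secGroup _ V).1 ⟨x, hx⟩ •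
        (CohCx.freeSheaf (Opens.grothendieckTopology X) U).obj.map (homOfLE inf_le_right).op
          (SiteBase.univSection (Opens.grothendieckTopology X) U), ?_⟩, ⟨hxW, hxU⟩⟩
      refine (map_zsmul _ _ _).trans ((congrArg _ (freeToSgl_res U inf_le_right)).trans ?_)
      refine Subtype.ext (funext fun y => ?_)
      refine Eq.trans ?_ (hc ⟨y.1, y.2.1⟩ trivial).symm
      show (c : secGroup _ V).1 ⟨x, hx⟩ • (1 : ℤ) = _
      rw [smul_eq_mul, mul_one]
    · refine ⟨W, homOfLE hWV, ⟨0, ?_⟩, hxW⟩
      refine (map_zero _).trans ?_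
      refine Subtype.ext (funext fun y => ?_)
      refine Eq.trans ?_ (hc y trivial).symm
      exact (AddSubgroup.mem_bot.1 (sgl_N_of_notMem (X := X) 1 (U := (U : Set X)) hxU ▸
        (c : secGroup _ V).2.1 ⟨x, hx⟩)).symm
  haveI : Mono (freeToSgl U) := by
    have hinj : ∀ (V : Opens X) (t : (CohCx.freeSheaf (Opens.grothendieckTopology X) U).obj.obj (op V)),
        (freeToSgl U).hom.app (op V) t = 0 → t = 0 := by
      intro V t ht
      have hloc : Presheaf.IsLocallySurjective (Opens.grothendieckTopology X)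
          (toSheafify (Opens.grothendieckTopology X) (yoneda.obj U ⋙ AddCommGrpCat.free.{u})) := inferInstance
      have hl : ∀ x : V, ∃ (W : Opens X) (i : W ⟶ V), (x : X) ∈ W ∧
          (CohCx.freeSheaf (Opens.grothendieckTopology X) U).obj.map i.op t = 0 := by
        intro x
        obtain ⟨W, i, ⟨a, ha⟩, hxW⟩ := hloc.imageSieve_mem (U := V) t x.1 x.2
        refine ⟨W, i, hxW, ha.symm.trans ?_⟩
        have h0 : (freeToSgl U).hom.app (op W)
            ((toSheafify (Opens.grothendieckTopology X) (yoneda.obj U ⋙ AddCommGrpCat.free.{u})).app (op W) a) = 0 := by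
          refine (congrArg ((freeToSgl U).hom.app (op W)) ha).trans ?_
          refine (ConcreteCategory.congr_hom ((freeToSgl U).hom.naturality i.op) t).trans ?_
          exact (congrArg ((lcSh (sgl (U : Set X) 1)).obj.map i.op) ht).trans
            (map_zero ((lcSh (sgl (U : Set X) 1)).obj.map i.op).hom)
        by_cases hWU : W ≤ U
        · haveI : Subsingleton ((yoneda.obj U).obj (op W)) := inferInstanceAs (Subsingleton (W ⟶ U))
          obtain ⟨m, rfl⟩ := freeAb_of_unique (T := (yoneda.obj U).obj (op W)) (homOfLE hWU) a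
          have hof : (toSheafify (Opens.grothendieckTopology X) (yoneda.obj U ⋙ AddCommGrpCat.free.{u})).app (op W)
              (FreeAbelianGroup.of (homOfLE hWU)) =
              (CohCx.freeSheaf (Opens.grothendieckTopology X) U).obj.map (homOfLE hWU).op
                (SiteBase.univSection (Opens.grothendieckTopology X) U) := by
            refine Eq.trans ?_ (ConcreteCategory.congr_hom
              ((toSheafify (Opens.grothendieckTopology X) (yoneda.obj U ⋙ AddCommGrpCat.free.{u})).naturality
                (homOfLE hWU).op) (FreeAbelianGroup.of (𝟙 U)))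
            exact congrArg ((toSheafify (Opens.grothendieckTopology X)
              (yoneda.obj U ⋙ AddCommGrpCat.free.{u})).app (op W))
              ((congrArg FreeAbelianGroup.of (Subsingleton.elim _ _)).trans (FreeAbelianGroup.map_of_apply _).symm)
          have hm : m • sglSec (X := X) 1 W hWU = 0 := by
            refine Eq.trans ?_ h0
            refine Eq.trans ?_ (congrArg _ ((map_zsmul _ m _).trans (congrArg _ hof)).symm)
            exact Eq.symm ((map_zsmul _ m _).trans (congrArg (m • ·) (freeToSgl_res U hWU)))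
          have e : m • (1 : ℤ) = 0 := congrFun (congrArg Subtype.val hm) ⟨x.1, hxW⟩
          rw [smul_eq_mul, mul_one] at e
          subst e
          exact (congrArg _ (zero_smul ℤ _)).trans (map_zero _)
        · haveI : IsEmpty ((yoneda.obj U).obj (op W)) := ⟨fun k => hWU (leOfHom k)⟩
          exact (congrArg _ (freeAb_subsingleton (T := (yoneda.obj U).obj (op W)) a)).trans (map_zero _)
      choose W i hxW hW using hl
      refine TopCat.Sheaf.eq_of_locally_eq'
        (⟨(CohCx.freeSheaf (Opens.grothendieckTopology X) U).obj, (CohCx.freeSheaf _ U).2⟩ :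
          TopCat.Sheaf AddCommGrpCat.{u} X) W V i
        (fun y hy => Opens.mem_iSup.2 ⟨⟨y, hy⟩, hxW ⟨y, hy⟩⟩) _ _ fun x => (hW x).trans ?_
      exact (map_zero ((CohCx.freeSheaf (Opens.grothendieckTopology X) U).obj.map (i x).op).hom).symm
    haveI : ∀ V, Mono ((freeToSgl U).hom.app V) := fun V =>
      (AddCommGrpCat.mono_iff_injective _).2 ((injective_iff_map_eq_zero _).2 (hinj V.unop))
    haveI : Mono (freeToSgl U).hom := NatTrans.mono_of_mono_app _
    haveI : Mono ((sheafToPresheaf _ _).map (freeToSgl U)) := ‹Mono (freeToSgl U).hom›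
    exact (sheafToPresheaf _ _).mono_of_mono_map ‹Mono ((sheafToPresheaf _ _).map (freeToSgl U))›
  exact isIso_of_mono_of_epi _

/-- `freeSheaf U ≅ ℤ` on `U`, extended by zero. -/
def freeIsoSgl (U : Opens X) : CohCx.freeSheaf (Opens.grothendieckTopology X) U ≅ lcSh (sgl (U : Set X) 1) :=
  haveI := isIso_freeToSgl U
  asIso (freeToSgl U)

/-- Multiplication by `n`. -/
def scale (U : Set X) (n : ℤ) : lcSh (sgl U 1) ⟶ lcSh (sgl U n) :=
  ObjectProperty.homMk
    { app := fun V => AddCommGrpCat.ofHom (AddMonoidHom.mk'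
        (fun f : secGroup (sgl U 1) V.unop => (⟨fun x => n * f.1 x, fun x => by
            by_cases hx : (x : X) ∈ U
            · rw [sgl_N_of_mem n hx]
              exact AddSubgroup.mem_zmultiples_iff.2 ⟨f.1 x, (smul_eq_mul _ _).trans (mul_comm _ _)⟩
            · have : f.1 x = 0 := AddSubgroup.mem_bot.1 (sgl_N_of_notMem 1 hx ▸ f.2.1 x)
              beta_reduce
              rw [this, mul_zero]
              exact zero_mem _,
          fun x hx => (f.2.2 x hx).mono fun y hy hyY => congrArg (n * ·) (hy hyY)⟩ : secGroup (sgl U n) V.unop))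
        (fun f g => Subtype.ext (funext fun x => mul_add n (f.1 x) (g.1 x))))
      naturality := fun _ _ _ => rfl }

theorem isIso_scale (U : Set X) {n : ℤ} (hn : n ≠ 0) : IsIso (scale (X := X) U n) := by
  haveI : ∀ V, IsIso ((scale (X := X) U n).hom.app V) := fun V => (ConcreteCategory.isIso_iff_bijective _).2 (by
    refine ⟨fun f g h => Subtype.ext (funext fun x => mul_left_cancel₀ hn (congrFun (congrArg Subtype.val h) x)),
      fun (g : secGroup (sgl U n) V.unop) => ?_⟩
    have hdvd : ∀ x, n ∣ g.1 x := fun x => by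
      by_cases hx : (x : X) ∈ U
      · exact Int.mem_zmultiples_iff.1 (sgl_N_of_mem n hx ▸ g.2.1 x)
      · have h0 : g.1 x = 0 := AddSubgroup.mem_bot.1 (sgl_N_of_notMem n hx ▸ g.2.1 x)
        rw [h0]
        exact dvd_zero n
    refine ⟨(⟨fun x => g.1 x / n, fun x => ?_, fun x hx => (g.2.2 x hx).mono fun y hy hyY =>
      congrArg (· / n) (hy hyY)⟩ : secGroup (sgl U 1) V.unop), Subtype.ext (funext fun x => Int.mul_ediv_cancel' (hdvd x))⟩
    by_cases hx : (x : X) ∈ U
    · rw [sgl_N_of_mem 1 hx]
      exact Int.mem_zmultiples_iff.2 (one_dvd _)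
    · have h0 : g.1 x = 0 := AddSubgroup.mem_bot.1 (sgl_N_of_notMem n hx ▸ g.2.1 x)
      beta_reduce
      rw [h0, Int.zero_ediv]
      exact zero_mem _)
  haveI : IsIso (scale (X := X) U n).hom := NatIso.isIso_of_isIso_app _
  haveI : IsIso ((sheafToPresheaf _ _).map (scale (X := X) U n)) := ‹_›
  exact isIso_of_reflects_iso _ (sheafToPresheaf _ _)

end Groth.Agent.TopVanish

end
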