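import Groth.Agent.TopVanish.Godement
import Groth.Agent.TopDescent.NbhdColimit

/-!
# Intersections of compact opens in spectral spaces: sections, cohomology, stalks of direct images
-/

set_option autoImplicit false

universe u

open CategoryTheory CategoryTheory.Limits Opposite TopologicalSpace Topology Filter

noncomputable section

namespace Groth.Agent.TopVanish

open TopDescent (gGroup gm gm_res subOver gMap gSh gPsh gEta agreeSet gBifunctor opn)
open SpObjSS (secAt)

/-- Compact and an intersection of compact opens. -/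
structure IsQCInter {X : TopCat.{u}} (T : Set X) : Prop where
  compact : IsCompact T
  sep : ∀ x ∉ T, ∃ V : Opens X, IsCompact (V : Set X) ∧ T ⊆ (V : Set X) ∧ x ∉ V

variable {X : TopCat.{u}} [PrespectralSpace X] [QuasiSeparatedSpace X]

lemma exists_qc_between {C : Set X} (hC : IsCompact C) {O : Opens X} (hCO : C ⊆ (O : Set X)) :
    ∃ K : Opens X, IsCompact (K : Set X) ∧ C ⊆ (K : Set X) ∧ K ≤ O := by
  have h : ∀ x : C, ∃ W : Opens X, (x : X) ∈ W ∧ IsCompact (W : Set X) ∧ W ≤ O := fun x => exists_compact_le (hCO x.2)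
  choose W hxW hW hWO using h
  obtain ⟨s, hs⟩ := hC.elim_finite_subcover (fun x : C => (W x : Set X)) (fun x => (W x).isOpen)
    (fun x hx => Set.mem_iUnion.2 ⟨⟨x, hx⟩, hxW ⟨x, hx⟩⟩)
  refine ⟨s.sup W, isCompact_sup s W hW, fun x hx => ?_, Finset.sup_le fun y _ => hWO y⟩
  obtain ⟨y, hy, hxy⟩ := Set.mem_iUnion₂.1 (hs hx)
  exact Finset.le_sup (f := W) hy hxy

variable [CompactSpace X] [QuasiSober X]

lemma isCompact_finset_inf {ι : Type*} (s : Finset ι) (V : ι → Opens X) (h : ∀ i, IsCompact (V i : Set X)) :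
    IsCompact ((s.inf V : Opens X) : Set X) := by
  classical
  induction s using Finset.induction with
  | empty => simpa using isCompact_univ
  | @insert i s _ ih => rw [Finset.inf_insert]; exact isCompact_inf (h i) ih

lemma isOpen_constructible_of_open (O : Opens X) : IsOpen[constructibleTopology X] (O : Set X) := by
  rw [@isOpen_iff_forall_mem_open X (constructibleTopology X)]
  intro x hx
  obtain ⟨W, hxW, hW, hWO⟩ := exists_compact_le (U := O) hx
  exact ⟨W, hWO, hW.isOpen_constructibleTopology_of_isOpen W.isOpen, hxW⟩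

/-- An open containing the common part with a compact open contains a common part with a neighbourhood. -/
theorem IsQCInter.exists_inf_le {T : Set X} (hT : IsQCInter T) {K : Opens X} (hK : IsCompact (K : Set X))
    (E : Opens X) (h : T ∩ (K : Set X) ⊆ (E : Set X)) :
    ∃ V : Opens X, IsCompact (V : Set X) ∧ T ⊆ (V : Set X) ∧ K ⊓ V ≤ E := by
  let D : Set X := (K : Set X) ∩ (E : Set X)ᶜ
  have hDc : IsClosed[constructibleTopology X] D :=
    @IsClosed.inter X _ _ (constructibleTopology X)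
      (@IsClosed.mk X (constructibleTopology X) _
        ((show IsCompact ((K : Set X)ᶜ)ᶜ by rwa [compl_compl]).isOpen_constructibleTopology_of_isClosed
          K.isOpen.isClosed_compl))
      (@IsClosed.mk X (constructibleTopology X) _ (by rw [compl_compl]; exact isOpen_constructible_of_open E))
  have hsep : ∀ y : D, ∃ V : Opens X, IsCompact (V : Set X) ∧ T ⊆ (V : Set X) ∧ y.1 ∉ V :=
    fun y => hT.sep y.1 fun hy => y.2.2 (h ⟨hy, y.2.1⟩)
  choose V hV hTV hyV using hsep
  obtain ⟨t, ht⟩ := @IsCompact.elim_finite_subcover X (constructibleTopology X) D _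
    (isCompact_of_isClosed_constructible hDc) (fun y : D => (V y : Set X)ᶜ)
    (fun y => (show IsCompact ((V y : Set X)ᶜ)ᶜ by rw [compl_compl]; exact hV y).isOpen_constructibleTopology_of_isClosed
      (V y).isOpen.isClosed_compl)
    (fun y hy => Set.mem_iUnion.2 ⟨⟨y, hy⟩, hyV ⟨y, hy⟩⟩)
  refine ⟨t.inf V, isCompact_finset_inf t V hV, fun x hx => ?_, fun x hx => by_contra fun hxE => ?_⟩
  · rw [Opens.coe_finset_inf, Finset.inf_set_eq_iInter]
    exact Set.mem_iInter₂.2 fun y _ => hTV y hx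
  · obtain ⟨y, hy, hxy⟩ := Set.mem_iUnion₂.1 (ht (⟨hx.1, hxE⟩ : x ∈ D))
    exact hxy ((Finset.inf_le (f := V) hy : t.inf V ≤ V y) hx.2)

omit [CompactSpace X] [QuasiSober X] in
theorem IsQCInter.inter {T : Set X} (hT : IsQCInter T) {U : Opens X} (hU : IsCompact (U : Set X))
    (h : IsCompact (T ∩ (U : Set X))) : IsQCInter (T ∩ (U : Set X)) where
  compact := h
  sep x hx := by
    by_cases hxU : x ∈ U
    · obtain ⟨V, hV, hTV, hxV⟩ := hT.sep x fun h' => hx ⟨h', hxU⟩
      exact ⟨V ⊓ U, isCompact_inf hV hU, fun z hz => ⟨hTV hz.1, hz.2⟩, fun h' => hxV h'.1⟩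
    · exact ⟨U, hU, fun z hz => hz.2, hxU⟩

theorem IsQCInter.isCompact_inter {T : Set X} (hT : IsQCInter T) {U : Opens X} (hU : IsCompact (U : Set X)) :
    IsCompact (T ∩ (U : Set X)) := by
  classical
  refine isCompact_of_finite_subcover fun {ι} O hO hcov => ?_
  let E : Opens X := ⟨⋃ i, O i, isOpen_iUnion hO⟩
  obtain ⟨V, hV, hTV, hle⟩ := hT.exists_inf_le hU E hcov
  obtain ⟨s, hs⟩ := (isCompact_inf hU hV).elim_finite_subcover O hO (fun x hx => hle hx)
  exact ⟨s, fun x hx => hs ⟨hx.2, hTV hx.1⟩⟩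

variable {F : CohTop.Ab X}

/-- Germ families on such a set come from sections near it. -/
theorem IsQCInter.exists_section {T : Set X} (hT : IsQCInter T) (σ : gGroup F (subOver T)) :
    ∃ (K : Opens X) (s : F.obj.obj (op K)) (hK : T ⊆ (K : Set X)),
      ∀ (w : (subOver T).left) (x : X) (e : (subOver T).hom w = x),
        σ.1 w ⟨x, e⟩ = gm F x (e ▸ hK w.2) s := by
  classical
  have hl : ∀ w : (subOver T).left, ∃ (K : Opens X) (s : F.obj.obj (op K)), w.1 ∈ K ∧ IsCompact (K : Set X) ∧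
      ∀ (v : (subOver T).left) (x : X) (e : (subOver T).hom v = x) (hx : x ∈ K), σ.1 v ⟨x, e⟩ = gm F x hx s := by
    intro w
    obtain ⟨U, hU, s, hs⟩ := σ.2 w
    obtain ⟨M, hM, hMo, hwM⟩ := eventually_nhds_iff.1 hs
    obtain ⟨O, hO, rfl⟩ := isOpen_induced_iff.1 hMo
    obtain ⟨K, hwK, hK, hKle⟩ := exists_compact_le (U := (⟨O, hO⟩ ⊓ U : Opens X)) ⟨hwM, hU⟩
    refine ⟨K, F.obj.map (homOfLE (hKle.trans inf_le_right)).op s, hwK, hK, fun v x e hx => ?_⟩
    refine (hM v ?_ x e (hKle hx).2).trans (gm_res F (hKle.trans inf_le_right) x hx s).symm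
    show v.1 ∈ O
    rw [show v.1 = x from e]
    exact (hKle hx).1
  choose K s hwK hK hs using hl
  have key : ∀ t : Finset (subOver T).left, ∃ (A : Opens X) (a : F.obj.obj (op A)), IsCompact (A : Set X) ∧
      (∀ w ∈ t, T ∩ (K w : Set X) ⊆ (A : Set X)) ∧
      ∀ (v : (subOver T).left) (x : X) (e : (subOver T).hom v = x) (hx : x ∈ A), σ.1 v ⟨x, e⟩ = gm F x hx a := by
    intro t
    induction t using Finset.induction with
    | empty => exact ⟨⊥, 0, by simp, fun w hw => absurd hw (Finset.notMem_empty w), fun v x e hx => hx.elim⟩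
    | @insert w t _ ih =>
      obtain ⟨A, a, hA, hcov, ha⟩ := ih
      obtain ⟨V, hV, hTV, hle⟩ := hT.exists_inf_le (isCompact_inf hA (hK w)) (agreeSet a (s w)) (by
        rintro x ⟨hxT, hx₁, hx₂⟩
        exact ⟨hx₁, hx₂, (ha ⟨x, hxT⟩ x rfl hx₁).symm.trans (hs w ⟨x, hxT⟩ x rfl hx₂)⟩)
      obtain ⟨c, hc₁, hc₂⟩ := glue_two F (C := A ⊓ V ⊔ K w ⊓ V) rfl le_sup_left le_sup_right
        (F.obj.map (homOfLE inf_le_left).op a) (F.obj.map (homOfLE inf_le_left).op (s w)) (by
          refine TopCat.Presheaf.section_ext (⟨F.obj, F.2⟩ : TopCat.Sheaf AddCommGrpCat.{u} X) _ _ _ fun z hz => ?_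
          obtain ⟨h₁, h₂, e⟩ := hle (⟨⟨hz.1.1, hz.2.1⟩, hz.1.2⟩ : z ∈ (A ⊓ K w) ⊓ V)
          refine Eq.trans ?_ (Eq.trans e ?_)
          · exact (gm_res F inf_le_left z hz _).trans (gm_res F inf_le_left z hz.1 a)
          · exact ((gm_res F inf_le_right z hz _).trans (gm_res F inf_le_left z hz.2 (s w))).symm)
      refine ⟨A ⊓ V ⊔ K w ⊓ V, c, isCompact_sup₂ (isCompact_inf hA hV) (isCompact_inf (hK w) hV), ?_, ?_⟩
      · intro w' hw' x hx
        rcases Finset.mem_insert.1 hw' with rfl | hw'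
        · exact Or.inr ⟨hx.2, hTV hx.1⟩
        · exact Or.inl ⟨hcov w' hw' hx, hTV hx.1⟩
      · intro v x e hx
        rcases hx with hx | hx
        · refine (ha v x e hx.1).trans ?_
          refine ((gm_res F inf_le_left x hx a).symm.trans ?_)
          rw [← hc₁]
          exact gm_res F le_sup_left x hx c
        · refine (hs w v x e hx.1).trans ?_
          refine ((gm_res F inf_le_left x hx (s w)).symm.trans ?_)
          rw [← hc₂]
          exact gm_res F le_sup_right x hx c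
  obtain ⟨t, ht⟩ := hT.compact.elim_finite_subcover (fun w : (subOver T).left => (K w : Set X))
    (fun w => (K w).isOpen) (fun x hx => Set.mem_iUnion.2 ⟨(⟨x, hx⟩ : (subOver T).left), hwK ⟨x, hx⟩⟩)
  obtain ⟨A, a, -, hcov, ha⟩ := key t
  refine ⟨A, a, fun x hx => ?_, fun w x e => ha w x e _⟩
  obtain ⟨w, hw, hxw⟩ := Set.mem_iUnion₂.1 (ht hx)
  exact hcov w hw ⟨hx, hxw⟩

/-- Compact opens of the subspace are traces of compact opens. -/
theorem exists_qc_preimage {T : Set X} (N : Opens (subOver T).left) (hN : IsCompact (N : Set (subOver T).left)) :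
    ∃ K : Opens X, IsCompact (K : Set X) ∧ ∀ w : (subOver T).left, w ∈ N ↔ w.1 ∈ K := by
  obtain ⟨O, hO, hON⟩ := isOpen_induced_iff.1 N.isOpen
  obtain ⟨K, hK, hsub, hle⟩ := exists_qc_between
    (hN.image (f := fun w : (subOver T).left => w.1) continuous_subtype_val) (O := ⟨O, hO⟩)
    (by rintro _ ⟨w, hw, rfl⟩; exact hON.ge hw)
  exact ⟨K, hK, fun w => ⟨fun hw => hsub ⟨w, hw, rfl⟩, fun hw => hON.le (hle hw)⟩⟩

omit [CompactSpace X] [QuasiSober X] in
theorem prespectralSpace_sub {T : Set X} (h : ∀ U : Opens X, IsCompact (U : Set X) → IsCompact (T ∩ (U : Set X))) :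
    PrespectralSpace (subOver T).left := by
  refine ⟨isTopologicalBasis_of_isOpen_of_nhds (fun s hs => hs.1) fun w s hw hs => ?_⟩
  obtain ⟨O, hO, rfl⟩ := isOpen_induced_iff.1 hs
  obtain ⟨K, hwK, hK, hKO⟩ := exists_compact_le (U := (⟨O, hO⟩ : Opens X)) hw
  refine ⟨(fun v : (subOver T).left => v.1) ⁻¹' (K : Set X), ⟨K.isOpen.preimage continuous_subtype_val, ?_⟩, hwK,
    fun v hv => hKO hv⟩
  refine (Topology.IsEmbedding.subtypeVal (p := fun z => z ∈ T)).isCompact_iff.2 ?_
  convert h K hK using 1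
  exact Subtype.image_preimage_coe _ _

theorem quasiSeparatedSpace_sub {T : Set X} (hT : IsQCInter T) : QuasiSeparatedSpace (subOver T).left := by
  refine ⟨fun U V hUo hUc hVo hVc => ?_⟩
  obtain ⟨K, hK, hKU⟩ := exists_qc_preimage (⟨U, hUo⟩ : Opens (subOver T).left) hUc
  obtain ⟨L, hL, hLV⟩ := exists_qc_preimage (⟨V, hVo⟩ : Opens (subOver T).left) hVc
  refine (Topology.IsEmbedding.subtypeVal (p := fun z => z ∈ T)).isCompact_iff.2 ?_
  convert hT.isCompact_inter (isCompact_inf hK hL) using 1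
  ext x
  constructor
  · rintro ⟨w, ⟨hw, hw'⟩, rfl⟩
    exact ⟨w.2, (hKU w).1 hw, (hLV w).1 hw'⟩
  · rintro ⟨hx, hxK, hxL⟩
    exact ⟨⟨x, hx⟩, ⟨(hKU ⟨x, hx⟩).2 hxK, (hLV ⟨x, hx⟩).2 hxL⟩, rfl⟩

/-- Pullbacks of flasque sheaves are flasque for compact opens. -/
theorem isQcFlasque_gSh [TopCat.Sheaf.IsFlasque F] {T : Set X} (hT : IsQCInter T) :
    IsQcFlasque (gSh F (subOver T)) := by
  intro U V hle _ hV (σ : gGroup F (opn (subOver T) V))
  obtain ⟨K, hK, hKV⟩ := exists_qc_preimage V hV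
  let k : subOver (T ∩ (K : Set X)) ⟶ opn (subOver T) V :=
    Over.homMk (TopCat.ofHom ⟨fun w => ⟨(⟨w.1, w.2.1⟩ : (subOver T).left), (hKV ⟨w.1, w.2.1⟩).2 w.2.2⟩,
      (continuous_subtype_val.subtype_mk _).subtype_mk _⟩) rfl
  obtain ⟨A, s, hA, hs⟩ := (hT.inter hK (hT.isCompact_inter hK)).exists_section (gMap k σ)
  obtain ⟨t, ht⟩ := TopDescent.exists_global s
  refine ⟨(gSh F (subOver T)).obj.map (homOfLE (le_top : U ≤ (Opens.map (subOver T).hom).obj ⊤)).op
    ((gEta F (subOver T)).hom.app (op ⊤) t), Subtype.ext (funext fun w => funext fun ⟨x, e⟩ => ?_)⟩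
  have hw : w.1.1 ∈ T ∩ (K : Set X) := ⟨w.1.2, (hKV w.1).1 w.2⟩
  refine Eq.trans ?_ (hs ⟨w.1.1, hw⟩ x e).symm
  exact ht x (show x ∈ A from e ▸ hA hw)

/-- Flasque sheaves pull back to acyclic sheaves. -/
theorem subsingleton_H_pull [TopCat.Sheaf.IsFlasque F] {T : Set X} (hT : IsQCInter T) (n : ℕ) :
    Subsingleton (CohTop.H ((CohTop.pull (subOver T).hom).obj F) (n + 1)) := by
  haveI : CompactSpace (subOver T).left := isCompact_iff_compactSpace.1 hT.compact
  haveI := prespectralSpace_sub (T := T) fun U hU => hT.isCompact_inter hU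
  haveI := quasiSeparatedSpace_sub hT
  haveI := TopDescent.isIso_gPsi (F := F) (subOver T)
  haveI := subsingleton_HU_of_isQcFlasque (isQcFlasque_gSh (F := F) hT) ⊤ isCompact_univ n
  haveI : Subsingleton (CohTop.H (gSh F (subOver T)) (n + 1)) :=
    (SiteBase.huTerminalEquiv isTerminalTop _ (n + 1)).toEquiv.symm.subsingleton
  exact @Equiv.subsingleton _ _ (((Sheaf.functorH (Opens.grothendieckTopology (subOver T).left) (n + 1)).mapIso
    (asIso (TopDescent.gPsi F (subOver T)))).addCommGroupIsoToAddEquiv).toEquiv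
    ‹Subsingleton (CohTop.H (gSh F (subOver T)) (n + 1))›

/-- The derived germ-family functor computes the cohomology of the subspace. -/
theorem nonempty_gB_rightDerived_iso {T : Set X} (hT : IsQCInter T) (G : CohTop.Ab X) (q : ℕ) :
    Nonempty (((gBifunctor X ⋙ (evaluation (Over X)ᵒᵖ AddCommGrpCat.{u}).obj (op (subOver T))).rightDerived q).obj G ≅
      AddCommGrpCat.of (CohTop.H ((CohTop.pull (subOver T).hom).obj G) q)) := by
  let V := subOver T
  let Ψ := secAt (Opens.grothendieckTopology V.left) ⊤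
  haveI : (CohTop.pull V.hom).Additive :=
    Adjunction.left_adjoint_additive (TopCat.Sheaf.pullbackPushforwardAdjunction AddCommGrpCat.{u} V.hom)
  haveI : PreservesFiniteColimits (CohTop.pull V.hom) := CohPull.preservesFiniteColimits_pull V.hom
  haveI : PreservesFiniteLimits Ψ :=
    inferInstanceAs (PreservesFiniteLimits (sheafToPresheaf (Opens.grothendieckTopology V.left) AddCommGrpCat.{u} ⋙
      (evaluation (Opens V.left)ᵒᵖ AddCommGrpCat.{u}).obj (op ⊤)))
  haveI : (CohTop.pull V.hom ⋙ Ψ).Additive := inferInstance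
  have hacyc : ∀ I : CohTop.Ab X, Injective I → TriCat.IsRightAcyclic Ψ ((CohTop.pull V.hom).obj I) := by
    intro I hI i hi
    obtain ⟨j, rfl⟩ := Nat.exists_eq_succ_of_ne_zero hi.ne'
    haveI : TopCat.Sheaf.IsFlasque I := SiteBase.isFlasque_of_injective I
    haveI := subsingleton_H_pull (F := I) hT j
    refine IsZero.of_iso ?_ (SpObjSS.rightDerivedSecAtIso (Opens.grothendieckTopology V.left) ⊤ (j + 1) _)
    have : Subsingleton (CohSite.HU ((CohTop.pull V.hom).obj I) (j + 1) (⊤ : Opens V.left)) :=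
      (SiteBase.huTerminalEquiv isTerminalTop _ (j + 1)).toEquiv.subsingleton
    exact AddCommGrpCat.isZero_of_subsingleton _
  exact ⟨(SiteBase.rightDerivedCongr (TopDescent.gTopNatIso V) q).app G ≪≫
    (TopDescent.nonempty_rightDerived_precomp_of_acyclic (CohTop.pull V.hom) Ψ hacyc q G).some ≪≫
    SpObjSS.rightDerivedSecAtIso _ ⊤ q _ ≪≫
    AddEquiv.toAddCommGrpIso (SiteBase.huTerminalEquiv isTerminalTop _ q)⟩

end Groth.Agent.TopVanish

end
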