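import Groth.Agent.TopVanish.LCFree
import Groth.Agent.TopVanish.QcFlasque
import Mathlib.GroupTheory.Archimedean

/-!
# Sheaves with vanishing cohomology from a degree on
-/

set_option autoImplicit false

universe u

open CategoryTheory CategoryTheory.Limits Opposite TopologicalSpace Topology Filter Abelian

noncomputable section

namespace Groth.Agent.TopVanish

variable {X : TopCat.{u}}

/-- `H^p(X, F) = 0` for `p ≥ n`. -/
def Van (n : ℕ) (F : CohTop.Ab X) : Prop := ∀ p, n ≤ p → Subsingleton (CohTop.HU F p ⊤)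

lemma van_of_iso {n : ℕ} {F G : CohTop.Ab X} (e : F ≅ G) (h : Van n F) : Van n G := fun p hp =>
  haveI := h p hp
  ((((Sheaf.cohomologyPresheafFunctor (Opens.grothendieckTopology X) p).mapIso e).app (op ⊤)).symm
    |>.addCommGroupIsoToAddEquiv).toEquiv.subsingleton

lemma van_of_isZero {n : ℕ} {F : CohTop.Ab X} (h : IsZero F) : Van n F := fun p _ =>
  subsingleton_of_forall_eq 0 fun (x : Ext (CohCx.freeSheaf (Opens.grothendieckTopology X) ⊤) F p) => by
    rw [← Ext.comp_mk₀_id x, h.eq_of_src (𝟙 F) 0, Ext.mk₀_zero, Ext.comp_zero]; rfl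

lemma van_X₃ {n : ℕ} {S : ShortComplex (CohTop.Ab X)} (hS : S.ShortExact) (h₁ : Van n S.X₁) (h₂ : Van n S.X₂) :
    Van n S.X₃ := fun p hp =>
  SiteBase.subsingleton_HU_X₃ hS ⊤ p (h₁ (p + 1) (hp.trans (Nat.le_succ p))) (h₂ p hp)

lemma van_X₂ {n : ℕ} {S : ShortComplex (CohTop.Ab X)} (hS : S.ShortExact) (h₁ : Van n S.X₁) (h₃ : Van n S.X₃) :
    Van n S.X₂ := fun p hp => SiteBase.subsingleton_HU_X₂ hS ⊤ p (h₁ p hp) (h₃ p hp)

lemma van_X₁_succ {n : ℕ} {S : ShortComplex (CohTop.Ab X)} (hS : S.ShortExact) (h₂ : Van (n + 1) S.X₂)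
    (h₃ : Van n S.X₃) : Van (n + 1) S.X₁ := fun p hp => by
  obtain ⟨m, rfl⟩ : ∃ m, p = m + 1 := ⟨p - 1, by omega⟩
  refine subsingleton_of_forall_eq 0 fun (x : Ext (CohCx.freeSheaf (Opens.grothendieckTopology X) ⊤) S.X₁ (m + 1)) => ?_
  obtain ⟨y, rfl⟩ := Ext.covariant_sequence_exact₁ _ hS x ((h₂ (m + 1) hp).elim _ _) (n₀ := m) rfl
  rw [show y = 0 from (h₃ m (by omega)).elim _ _, Ext.zero_comp]; rfl

lemma van_biprod {n : ℕ} {F G : CohTop.Ab X} (hF : Van n F) (hG : Van n G) : Van n (F ⊞ G) :=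
  van_X₂ (S := ShortComplex.mk (biprod.inl : F ⟶ F ⊞ G) biprod.snd biprod.inl_snd)
    (ShortComplex.Splitting.ofHasBinaryBiproduct F G).shortExact hF hG

lemma isZero_lcSh {D : Dat X} (h : ∀ x, D.N x = ⊥) : IsZero (lcSh D) := by
  rw [IsZero.iff_id_eq_zero]
  refine Sheaf.hom_ext (NatTrans.ext (funext fun U => AddCommGrpCat.hom_ext (AddMonoidHom.ext
    fun (f : secGroup D U.unop) => Subtype.ext (funext fun x => ?_))))
  exact AddSubgroup.mem_bot.1 (h x ▸ f.2.1 x)

lemma isIso_rmap_of_eq {D D' : Dat X} (h : Dat.Hom D D') (hY : D.Y ⊆ D'.Y)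
    (hN : ∀ x ∈ D'.Y, D'.N x ≤ D.N x) : IsIso (rmap h) :=
  isIso_rmap_of_bijective h fun U => by
    refine ⟨fun (f g : secGroup D U) e => Subtype.ext (funext fun x =>
      (rmap_apply_of_eq h hY f x).symm.trans ((congrFun (congrArg Subtype.val e) x).trans (rmap_apply_of_eq h hY g x))),
      fun (g : secGroup D' U) => ?_⟩
    refine ⟨(⟨g.1, fun x => ?_, fun x hx => (g.2.2 x (hY hx)).mono fun y hy hyY => hy (hY hyY)⟩ : secGroup D U),
      Subtype.ext (funext fun x => rmap_apply_of_eq h hY _ x)⟩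
    by_cases hx : (x : X) ∈ D'.Y
    · exact hN x hx (g.2.1 x)
    · rw [eq_zero_of_notMem D' g x hx]
      exact zero_mem _

lemma van_congr {n : ℕ} {D D' : Dat X} (hY : D.Y = D'.Y) (hN : ∀ x, D.N x = D'.N x) (h : Van n (lcSh D)) :
    Van n (lcSh D') :=
  haveI := isIso_rmap_of_eq (D := D) (D' := D') ⟨hY.ge, fun x _ => (hN x).le⟩ hY.le fun x _ => (hN x).ge
  van_of_iso (asIso (rmap ⟨hY.ge, fun x _ => (hN x).le⟩)) h

lemma van_sgl {n : ℕ} (U : Opens X) (h : Van n (CohCx.freeSheaf (Opens.grothendieckTopology X) U)) (k : ℤ) :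
    Van n (lcSh (sgl (U : Set X) k)) := by
  rcases eq_or_ne k 0 with rfl | hk
  · refine van_of_isZero (isZero_lcSh fun x => ?_)
    by_cases hx : x ∈ (U : Set X)
    · rw [sgl_N_of_mem 0 hx, AddSubgroup.zmultiples_zero_eq_bot]
    · rw [sgl_N_of_notMem 0 hx]
  · haveI := isIso_scale (U : Set X) hk
    exact van_of_iso (freeIsoSgl U ≪≫ asIso (scale (U : Set X) k)) h

section Sum

variable (B M : Dat X)

/-- Pointwise intersection. -/
def interD : Dat X where
  Y := Set.univ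
  N x := B.N x ⊓ M.N x
  off x hx := absurd trivial hx

/-- Pointwise sum. -/
def sumD : Dat X where
  Y := Set.univ
  N x := B.N x ⊔ M.N x
  off x hx := absurd trivial hx

variable {B M} (hB : B.Y = Set.univ) (hM : M.Y = Set.univ)

/-- The difference embedding. -/
def sumSeq : ShortComplex (CohTop.Ab X) :=
  ShortComplex.mk
    (biprod.lift (rmap (D := interD B M) (D' := B) ⟨fun _ _ => trivial, fun _ _ => inf_le_left⟩)
      (-rmap (D := interD B M) (D' := M) ⟨fun _ _ => trivial, fun _ _ => inf_le_right⟩))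
    (biprod.desc (rmap (D := B) (D' := sumD B M) ⟨hB.ge, fun _ _ => le_sup_left⟩)
      (rmap (D := M) (D' := sumD B M) ⟨hM.ge, fun _ _ => le_sup_right⟩))
    (by
      rw [biprod.lift_desc, Preadditive.neg_comp, add_neg_eq_zero]
      refine Sheaf.hom_ext (NatTrans.ext (funext fun U => AddCommGrpCat.hom_ext (AddMonoidHom.ext
        fun (f : secGroup (interD B M) U.unop) => Subtype.ext (funext fun x => ?_))))
      refine Eq.trans ((rmap_apply_of_eq (D := B) (D' := sumD B M) ⟨hB.ge, fun _ _ => le_sup_left⟩ (fun _ _ => trivial) _ x).trans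
        (rmap_apply_of_eq (D := interD B M) (D' := B) ⟨fun _ _ => trivial, fun _ _ => inf_le_left⟩ hB.ge f x)) ?_
      exact ((rmap_apply_of_eq (D := M) (D' := sumD B M) ⟨hM.ge, fun _ _ => le_sup_right⟩ (fun _ _ => trivial) _ x).trans
        (rmap_apply_of_eq (D := interD B M) (D' := M) ⟨fun _ _ => trivial, fun _ _ => inf_le_right⟩ hM.ge f x)).symm)

lemma biprod_app_total (F G : CohTop.Ab X) (V : Opens X) (b : (F ⊞ G).obj.obj (op V)) :
    (biprod.inl : F ⟶ F ⊞ G).hom.app (op V) ((biprod.fst : F ⊞ G ⟶ F).hom.app (op V) b) +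
      (biprod.inr : G ⟶ F ⊞ G).hom.app (op V) ((biprod.snd : F ⊞ G ⟶ G).hom.app (op V) b) = b :=
  congrArg (fun t : F ⊞ G ⟶ F ⊞ G => t.hom.app (op V) b) biprod.total

lemma desc_app {F G H : CohTop.Ab X} (a : F ⟶ H) (c : G ⟶ H) (V : Opens X) (b : (F ⊞ G).obj.obj (op V)) :
    (biprod.desc a c).hom.app (op V) b =
      a.hom.app (op V) ((biprod.fst : F ⊞ G ⟶ F).hom.app (op V) b) +
      c.hom.app (op V) ((biprod.snd : F ⊞ G ⟶ G).hom.app (op V) b) :=
  congrArg (fun t : F ⊞ G ⟶ H => t.hom.app (op V) b)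
    (biprod.desc_eq (f := a) (g := c))

theorem sumSeq_shortExact (hBo : B.IsOp) (hMo : M.IsOp) : (sumSeq hB hM).ShortExact := by
  refine shortExact_of_local _ (fun U (f : secGroup (interD B M) U) hf => ?_) (fun U b hb x hxU => ?_)
    (fun U (c : secGroup (sumD B M) U) x hxU => ?_)
  · refine Subtype.ext (funext fun x => ?_)
    have e := congrArg ((biprod.fst : lcSh B ⊞ lcSh M ⟶ lcSh B).hom.app (op U)) hf
    have h1 : (rmap (D := interD B M) (D' := B) ⟨fun _ _ => trivial, fun _ _ => inf_le_left⟩).hom.app (op U) f = 0 :=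
      (congrArg (fun t : lcSh (interD B M) ⟶ lcSh B => t.hom.app (op U) f) (biprod.lift_fst _ _).symm).trans
        (e.trans (map_zero _))
    exact (rmap_apply_of_eq (D := interD B M) (D' := B) ⟨fun _ _ => trivial, fun _ _ => inf_le_left⟩ hB.ge f x).symm.trans (congrFun (congrArg Subtype.val h1) x)
  · let b₁ : secGroup B U := (biprod.fst : lcSh B ⊞ lcSh M ⟶ lcSh B).hom.app (op U) b
    let b₂ : secGroup M U := (biprod.snd : lcSh B ⊞ lcSh M ⟶ lcSh M).hom.app (op U) b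
    have hsum : ∀ y, b₁.1 y + b₂.1 y = 0 := fun y => by
      have := congrFun (congrArg Subtype.val ((desc_app _ _ U b).symm.trans hb)) y
      rw [← rmap_apply_of_eq (D := B) (D' := sumD B M) ⟨hB.ge, fun _ _ => le_sup_left⟩ (fun _ _ => trivial) b₁ y,
        ← rmap_apply_of_eq (D := M) (D' := sumD B M) ⟨hM.ge, fun _ _ => le_sup_right⟩ (fun _ _ => trivial) b₂ y]
      exact this
    let a : secGroup (interD B M) U := ⟨b₁.1, fun y => ⟨b₁.2.1 y, by
      show b₁.1 y ∈ M.N y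
      rw [eq_neg_of_add_eq_zero_left (hsum y)]
      exact neg_mem (b₂.2.1 y)⟩, fun y hy => (b₁.2.2 y (hB.ge hy)).mono fun z hz _ => hz (hB.ge trivial)⟩
    refine ⟨U, le_rfl, hxU, a, ?_⟩
    refine Eq.trans ?_ (ConcreteCategory.congr_hom ((lcSh B ⊞ lcSh M).obj.map_id (op U)) b).symm
    refine (biprod_app_total (lcSh B) (lcSh M) U _).symm.trans ?_
    refine Eq.trans ?_ (biprod_app_total (lcSh B) (lcSh M) U b)
    congr 1
    · refine congrArg ((biprod.inl : lcSh B ⟶ lcSh B ⊞ lcSh M).hom.app (op U)) ?_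
      refine (congrArg (fun t : lcSh (interD B M) ⟶ lcSh B => t.hom.app (op U) a) (biprod.lift_fst _ _)).trans ?_
      exact Subtype.ext (funext fun y => rmap_apply_of_eq (D := interD B M) (D' := B) ⟨fun _ _ => trivial, fun _ _ => inf_le_left⟩ hB.ge a y)
    · refine congrArg ((biprod.inr : lcSh M ⟶ lcSh B ⊞ lcSh M).hom.app (op U)) ?_
      refine (congrArg (fun t : lcSh (interD B M) ⟶ lcSh M => t.hom.app (op U) a) (biprod.lift_snd _ _)).trans ?_
      refine Subtype.ext (funext fun y => ?_)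
      refine (congrArg Neg.neg (rmap_apply_of_eq (D := interD B M) (D' := M) ⟨fun _ _ => trivial, fun _ _ => inf_le_right⟩ hM.ge a y)).trans ?_
      exact neg_eq_of_add_eq_zero_right (hsum y)
  · obtain ⟨W, hW, hxW, hc⟩ := exists_const_nhd c ⟨x, hxU⟩ trivial
    obtain ⟨p, hp, q, hq, hpq⟩ := AddSubgroup.mem_sup.1 (c.2.1 ⟨x, hxU⟩)
    obtain ⟨t, ht, hto, hxt⟩ := eventually_nhds_iff.1
      ((hBo x (hB.ge trivial) p hp).and (hMo x (hM.ge trivial) q hq))
    let V : Opens X := ⟨t, hto⟩ ⊓ W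
    let sp : secGroup B V := ⟨fun _ => p, fun y => (ht y.1 y.2.1).1 (hB.ge trivial),
      fun _ _ => Eventually.of_forall fun _ _ => rfl⟩
    let sq : secGroup M V := ⟨fun _ => q, fun y => (ht y.1 y.2.1).2 (hM.ge trivial),
      fun _ _ => Eventually.of_forall fun _ _ => rfl⟩
    refine ⟨V, inf_le_right.trans hW, ⟨hxt, hxW⟩,
      (biprod.inl : lcSh B ⟶ lcSh B ⊞ lcSh M).hom.app (op V) sp +
        (biprod.inr : lcSh M ⟶ lcSh B ⊞ lcSh M).hom.app (op V) sq, ?_⟩
    refine (map_add ((sumSeq hB hM).g.hom.app (op V)).hom _ _).trans ?_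
    refine (congrArg₂ (· + ·)
      (congrArg (fun t : lcSh B ⟶ lcSh (sumD B M) => t.hom.app (op V) sp) (biprod.inl_desc _ _))
      (congrArg (fun t : lcSh M ⟶ lcSh (sumD B M) => t.hom.app (op V) sq) (biprod.inr_desc _ _))).trans ?_
    refine Subtype.ext (funext fun y => ?_)
    refine (congrArg₂ (· + ·) (rmap_apply_of_eq (D := B) (D' := sumD B M) ⟨hB.ge, fun _ _ => le_sup_left⟩ (fun _ _ => trivial) sp y)
      (rmap_apply_of_eq (D := M) (D' := sumD B M) ⟨hM.ge, fun _ _ => le_sup_right⟩ (fun _ _ => trivial) sq y)).trans ?_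
    exact hpq.trans (hc ⟨y.1, y.2.2⟩ trivial).symm

end Sum

/-- The subgroups generated by a list of opens with multiplicities. -/
def genN : List (Opens X × ℤ) → X → AddSubgroup ℤ
  | [], _ => ⊥
  | (A, n) :: l, x => (sgl (A : Set X) n).N x ⊔ genN l x

/-- The datum generated by a list. -/
def gen (l : List (Opens X × ℤ)) : Dat X where
  Y := Set.univ
  N := genN l
  off x hx := absurd trivial hx

lemma gen_isOp : ∀ l : List (Opens X × ℤ), (gen l).IsOp
  | [], x, _, a, ha => Eventually.of_forall fun y _ => by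
      rw [show a = 0 from AddSubgroup.mem_bot.1 ha]; exact zero_mem _
  | (A, n) :: l, x, _, a, ha => by
      obtain ⟨p, hp, q, hq, rfl⟩ := AddSubgroup.mem_sup.1 ha
      filter_upwards [sgl_isOp A n x trivial p hp, gen_isOp l x trivial q hq] with y h1 h2 _
      exact AddSubgroup.add_mem_sup (h1 trivial) (h2 trivial)

lemma int_sup_inf_le (a b c : AddSubgroup ℤ) : (a ⊔ b) ⊓ c ≤ (a ⊓ c) ⊔ (b ⊓ c) := by
  obtain ⟨g, hg⟩ := Int.subgroup_cyclic (a ⊔ b)
  intro x hx
  obtain ⟨s, hs, t, ht, hst⟩ := AddSubgroup.mem_sup.1 (hg ▸ AddSubgroup.subset_closure rfl : g ∈ a ⊔ b)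
  obtain ⟨k, hk⟩ := AddSubgroup.mem_closure_singleton.1 (hg ▸ hx.1)
  obtain ⟨s', hs'⟩ := AddSubgroup.mem_closure_singleton.1 (hg ▸ (le_sup_left : a ≤ a ⊔ b) hs)
  obtain ⟨t', ht'⟩ := AddSubgroup.mem_closure_singleton.1 (hg ▸ (le_sup_right : b ≤ a ⊔ b) ht)
  rw [smul_eq_mul] at hk hs' ht'
  refine AddSubgroup.mem_sup.2 ⟨k * s, ⟨?_, ?_⟩, k * t, ⟨?_, ?_⟩, by rw [← mul_add, hst, hk]⟩
  · rw [← smul_eq_mul]; exact a.zsmul_mem hs k
  · rw [← hs', show k * (s' * g) = s' • (k * g) by rw [smul_eq_mul]; ring, hk]; exact c.zsmul_mem hx.2 s'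
  · rw [← smul_eq_mul]; exact b.zsmul_mem ht k
  · rw [← ht', show k * (t' * g) = t' • (k * g) by rw [smul_eq_mul]; ring, hk]; exact c.zsmul_mem hx.2 t'

lemma sgl_inter (A B : Opens X) (m n : ℤ) (x : X) :
    (sgl ((A ⊓ B : Opens X) : Set X) (Int.lcm m n)).N x = (sgl (A : Set X) m).N x ⊓ (sgl (B : Set X) n).N x := by
  by_cases hA : x ∈ (A : Set X)
  · by_cases hB : x ∈ (B : Set X)
    · rw [sgl_N_of_mem _ (show x ∈ ((A ⊓ B : Opens X) : Set X) from ⟨hA, hB⟩), sgl_N_of_mem _ hA, sgl_N_of_mem _ hB]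
      ext k
      simp only [AddSubgroup.mem_inf, Int.mem_zmultiples_iff]
      exact ⟨fun h => ⟨(Int.dvd_lcm_left m n).trans h, (Int.dvd_lcm_right m n).trans h⟩,
        fun h => Int.coe_lcm_dvd h.1 h.2⟩
    · rw [sgl_N_of_notMem _ (show x ∉ ((A ⊓ B : Opens X) : Set X) from fun h => hB h.2), sgl_N_of_notMem _ hB, inf_bot_eq]
  · rw [sgl_N_of_notMem _ (show x ∉ ((A ⊓ B : Opens X) : Set X) from fun h => hA h.1), sgl_N_of_notMem _ hA, bot_inf_eq]

lemma genN_inter (B : Opens X) (n : ℤ) : ∀ (l : List (Opens X × ℤ)) (x : X),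
    genN (l.map fun a => (a.1 ⊓ B, (Int.lcm a.2 n : ℤ))) x = genN l x ⊓ (sgl (B : Set X) n).N x
  | [], x => bot_inf_eq _ |>.symm
  | (A, m) :: l, x => by
      show _ ⊔ genN _ x = _
      rw [genN_inter B n l x, sgl_inter A B m n x]
      exact le_antisymm le_inf_sup_right' (int_sup_inf_le _ _ _)
where
  le_inf_sup_right' {a b c : AddSubgroup ℤ} : (a ⊓ c) ⊔ (b ⊓ c) ≤ (a ⊔ b) ⊓ c :=
    le_inf (sup_le_sup inf_le_left inf_le_left) (sup_le inf_le_right inf_le_right)

/-- Vanishing for generated subsheaves of functions. -/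
theorem van_gen {n : ℕ} (P : Opens X → Prop) (hP : ∀ A B, P A → P B → P (A ⊓ B))
    (h : ∀ A, P A → Van n (CohCx.freeSheaf (Opens.grothendieckTopology X) A)) :
    ∀ (k : ℕ) (l : List (Opens X × ℤ)), l.length = k → (∀ a ∈ l, P a.1) → Van n (lcSh (gen l))
  | 0, l, hl, _ => by
      rw [List.length_eq_zero_iff] at hl
      subst hl
      exact van_of_isZero (isZero_lcSh fun x => rfl)
  | k + 1, [], hl, _ => by simp at hl
  | k + 1, (A, m) :: l, hl, hmem => by
      have hl' : l.length = k := Nat.succ.inj hl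
      have hA : P A := hmem (A, m) List.mem_cons_self
      have h1 : Van n (lcSh (interD (gen l) (sgl (A : Set X) m))) :=
        van_congr (D := gen (l.map fun a : Opens X × ℤ => (a.1 ⊓ A, (Int.lcm a.2 m : ℤ))))
          (D' := interD (gen l) (sgl (A : Set X) m)) rfl (fun x => genN_inter A m l x)
          (van_gen P hP h k (l.map fun a : Opens X × ℤ => (a.1 ⊓ A, (Int.lcm a.2 m : ℤ))) (by simpa using hl') (fun a ha => by
            obtain ⟨b, hb, rfl⟩ := List.mem_map.1 ha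
            exact hP _ _ (hmem b (List.mem_cons_of_mem _ hb)) hA))
      have h2 := van_biprod (van_gen P hP h k l hl' fun a ha => hmem a (List.mem_cons_of_mem _ ha))
        (van_sgl A (h A hA) m)
      exact van_congr (D := sumD (gen l) (sgl (A : Set X) m)) (D' := gen ((A, m) :: l)) rfl (fun x => sup_comm _ _)
        (van_X₃ (sumSeq_shortExact (B := gen l) (M := sgl (A : Set X) m) rfl rfl (gen_isOp l) (sgl_isOp A m)) h1 h2)

end Groth.Agent.TopVanish

end
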